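import Cfsg.Agent.BlockChar.SectionRank
import Cfsg.Agent.BlockChar.Nilpotent
import Cfsg.Agent.Fusion.Transfer

/-!
# The section projections of the principal block

For a p-element `u`, `secM p u χ ψ` is the part of the scalar product of `χ` and `ψ` coming from
the elements whose p-part is conjugate to `u`.
-/

namespace Cfsg.Agent.SmallAbelian

open scoped ComplexConjugate
open Cfsg.Agent Cfsg.Agent.Blocks

universe u

variable {G : Type u} [Group G] [Fintype G] {p : ℕ} {M : Ideal Cfsg.AlgInt}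

local notation "B₀" => Cfsg.principalBlock M G

/-- The contribution of the section of `x` to the scalar product. -/
noncomputable def secM (p : ℕ) (x : G) (χ ψ : G → ℂ) : ℂ :=
  open Classical in
  (Nat.card (Subgroup.centralizer ({x} : Set G)) : ℂ)⁻¹ *
    ∑ g ∈ Finset.univ.filter (fun g => pPartOf p g = x), χ g * conj (ψ g)

theorem secM_conj (x : G) (χ ψ : G → ℂ) : conj (secM p x χ ψ) = secM p x ψ χ := by
  simp only [secM, map_mul, map_inv₀, map_natCast, map_sum, Complex.conj_conj]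
  congr 1
  exact Finset.sum_congr rfl fun g _ => mul_comm _ _

theorem secM_diag (x : G) (χ : G → ℂ) : ∃ r : ℝ, 0 ≤ r ∧ secM p x χ χ = r ∧
    (∀ g, pPartOf p g = x → χ g ≠ 0 → 0 < r) := by
  classical
  refine ⟨(Nat.card (Subgroup.centralizer ({x} : Set G)) : ℝ)⁻¹ *
    ∑ g ∈ Finset.univ.filter (fun g => pPartOf p g = x), Complex.normSq (χ g), ?_, ?_, ?_⟩
  · exact mul_nonneg (by positivity) (Finset.sum_nonneg fun g _ => Complex.normSq_nonneg _)
  · push_cast
    simp only [secM, Complex.mul_conj]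
  · intro g hg hne
    refine mul_pos (inv_pos.2 (Nat.cast_pos.2 Nat.card_pos)) ?_
    exact Finset.sum_pos' (fun g _ => Complex.normSq_nonneg _)
      ⟨g, Finset.mem_filter.2 ⟨Finset.mem_univ _, hg⟩, Complex.normSq_pos.2 hne⟩

open scoped Classical in
/-- A weighted scalar product, section by section. -/
theorem classInner_eq_sum_secM (hp : p.Prime) {X : Finset G}
    (hX : ∀ g : G, (∃ k : ℕ, orderOf g = p ^ k) → ∃! x, x ∈ X ∧ IsConj g x) {F : G → ℂ}
    (hF : Cfsg.IsClassFunction G F) (χ ψ : Cfsg.IrrCharacter G) :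
    Cfsg.classInner (fun g => F (pPartOf p g) * (χ : G → ℂ) g) (ψ : G → ℂ) =
      ∑ x ∈ X, F x * secM p x (χ : G → ℂ) (ψ : G → ℂ) := by
  have hcl : Cfsg.IsClassFunction G
      (fun g => F (pPartOf p g) * (χ : G → ℂ) g * conj ((ψ : G → ℂ) g)) := fun g k => by
    simp only [pPartOf_conj, hF _ k, Char.isClassFunction_of_isIrr χ.2 g k,
      Char.isClassFunction_of_isIrr ψ.2 g k]
  have e : Cfsg.classInner (fun g => F (pPartOf p g) * (χ : G → ℂ) g) (ψ : G → ℂ) =
      (Nat.card G : ℂ)⁻¹ * ∑ g, F (pPartOf p g) * (χ : G → ℂ) g * conj ((ψ : G → ℂ) g) := by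
    rw [Cfsg.classInner]
  rw [e, sum_by_sections hp hX hcl, Finset.mul_sum]
  refine Finset.sum_congr rfl fun x _ => ?_
  rw [secM, Finset.sum_congr rfl (g := fun g => F x * ((χ : G → ℂ) g * conj ((ψ : G → ℂ) g)))
    (fun g hg => by rw [(Finset.mem_filter.1 hg).2, mul_assoc]), ← Finset.mul_sum,
    ← Subgroup.card_mul_index (Subgroup.centralizer ({x} : Set G)), Nat.cast_mul]
  have h1 : (Nat.card (Subgroup.centralizer ({x} : Set G)) : ℂ) ≠ 0 :=
    Nat.cast_ne_zero.2 Nat.card_pos.ne'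
  have h2 : ((Subgroup.centralizer ({x} : Set G)).index : ℂ) ≠ 0 :=
    Nat.cast_ne_zero.2 Subgroup.index_ne_zero_of_finite
  field_simp

/-- The section projections sum to the identity. -/
theorem sum_secM (hp : p.Prime) {X : Finset G}
    (hX : ∀ g : G, (∃ k : ℕ, orderOf g = p ^ k) → ∃! x, x ∈ X ∧ IsConj g x)
    (χ ψ : Cfsg.IrrCharacter G) [Decidable (χ = ψ)] :
    ∑ x ∈ X, secM p x (χ : G → ℂ) (ψ : G → ℂ) = if χ = ψ then 1 else 0 := by
  classical
  have h := classInner_eq_sum_secM (F := fun _ => (1 : ℂ)) hp hX (fun _ _ => rfl) χ ψ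
  simp only [one_mul] at h
  rw [← h, Char.classInner_irrChar]
  congr

/-- A generalized character of the Sylow subgroup, stable under fusion, gives integral weighted
sums of the section projections. -/
theorem exists_int_sum_secM (hp : p.Prime) {X : Finset G}
    (hX : ∀ g : G, (∃ k : ℕ, orderOf g = p ^ k) → ∃! x, x ∈ X ∧ IsConj g x) {F : G → ℂ}
    (hF : Cfsg.IsClassFunction G F)
    (hgen : Cfsg.IsGeneralizedCharacter G (fun g => F (pPartOf p g)))
    (χ ψ : Cfsg.IrrCharacter G) :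
    ∃ n : ℤ, ∑ x ∈ X, F x * secM p x (χ : G → ℂ) (ψ : G → ℂ) = n := by
  rw [← classInner_eq_sum_secM hp hX hF χ ψ]
  exact Char.classInner_generalized_int
    (Char.isGeneralized_mul hgen
      (Char.isGeneralized_of_isCharacter (Char.IsIrr.isCharacter χ.2)))
    (Char.isGeneralized_of_isCharacter (Char.IsIrr.isCharacter ψ.2))

/-- Different sections are orthogonal on a block. -/
theorem secM_mul_secM (hM : Cfsg.IsPModular p M) {B : Set (Cfsg.IrrCharacter G)}
    (hB : Cfsg.IsPBlock M B) {x y : G} (hxy : ¬ IsConj x y) (χ ψ : G → ℂ) :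
    ∑ᶠ φ ∈ B, secM p x χ (φ : G → ℂ) * secM p y (φ : G → ℂ) ψ = 0 := by
  classical
  rw [finsum_mem_eq_finite_toFinset_sum _ B.toFinite]
  simp only [secM]
  set a := (Nat.card (Subgroup.centralizer ({x} : Set G)) : ℂ)⁻¹
  set b := (Nat.card (Subgroup.centralizer ({y} : Set G)) : ℂ)⁻¹
  rw [Finset.sum_congr rfl fun φ _ => mul_mul_mul_comm a _ b _, ← Finset.mul_sum]
  simp only [Finset.sum_mul_sum]
  rw [Finset.sum_comm]
  refine mul_eq_zero_of_right _ (Finset.sum_eq_zero fun g hg => ?_)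
  rw [Finset.sum_comm]
  refine Finset.sum_eq_zero fun h hh => ?_
  have hp := hM.1
  have hinv : pPartOf p g⁻¹ = (pPartOf p g)⁻¹ := by
    have hpp := pPartOf_mul_pPrimePartOf hp g
    have hc := (commute_pPartOf_pPrimePartOf (p := p) g).inv_inv
    conv_lhs => rw [show g⁻¹ = (pPartOf p g)⁻¹ * (pPrimePartOf p g)⁻¹ by
      rw [hc.eq, ← mul_inv_rev, hpp]]
    obtain ⟨k, hk⟩ := orderOf_pPartOf hp g
    exact (parts_mul hp hc ⟨k, by rw [orderOf_inv, hk]⟩
      (by rw [orderOf_inv]; exact not_dvd_orderOf_pPrimePartOf hp g)).1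
  have horth := block_orthogonality hM hB g⁻¹ h (by
    rw [hinv, (Finset.mem_filter.1 hg).2, (Finset.mem_filter.1 hh).2]
    intro hc
    obtain ⟨c, hc⟩ := isConj_iff.1 hc
    refine hxy (isConj_iff.2 ⟨c, inv_injective ?_⟩)
    rw [← hc]; group)
  rw [finsum_mem_eq_finite_toFinset_sum _ B.toFinite] at horth
  rw [Finset.sum_congr rfl (g := fun φ : Cfsg.IrrCharacter G =>
    (χ g * conj (ψ h)) * ((φ : G → ℂ) g⁻¹ * (φ : G → ℂ) h)) (fun φ _ => by
      rw [Char.IsChar.inv_eq_conj (Char.IsIrr.isCharacter φ.2)]; ring),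
    ← Finset.mul_sum, horth, mul_zero]

open scoped Classical in
/-- The section projections of the principal block are idempotent. -/
theorem secM_mul_self (hM : Cfsg.IsPModular p M) {X : Finset G}
    (hX : ∀ g : G, (∃ k : ℕ, orderOf g = p ^ k) → ∃! x, x ∈ X ∧ IsConj g x)
    {B : Set (Cfsg.IrrCharacter G)} (hB : Cfsg.IsPBlock M B) {x : G} (hx : x ∈ X)
    (hxp : ∃ k, orderOf x = p ^ k) (χ ψ : Cfsg.IrrCharacter G) (hψ : ψ ∈ B) :
    ∑ᶠ φ ∈ B, secM p x (χ : G → ℂ) (φ : G → ℂ) * secM p x (φ : G → ℂ) (ψ : G → ℂ) =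
      secM p x (χ : G → ℂ) (ψ : G → ℂ) := by
  have hne : ∀ y ∈ X.erase x, ¬ IsConj x y := fun y hy hc => by
    obtain ⟨x', -, huniq⟩ := hX x hxp
    exact (Finset.mem_erase.1 hy).1 ((huniq y ⟨(Finset.mem_erase.1 hy).2, hc⟩).trans
      (huniq x ⟨hx, IsConj.refl x⟩).symm)
  have h : ∑ y ∈ X, ∑ᶠ φ ∈ B, secM p x (χ : G → ℂ) (φ : G → ℂ) *
      secM p y (φ : G → ℂ) (ψ : G → ℂ) = secM p x (χ : G → ℂ) (ψ : G → ℂ) := by
    simp only [finsum_mem_eq_finite_toFinset_sum _ B.toFinite]
    rw [Finset.sum_comm]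
    simp only [← Finset.mul_sum, sum_secM hM.1 hX, mul_ite, mul_one, mul_zero]
    rw [Finset.sum_ite_eq' B.toFinite.toFinset ψ, if_pos (B.toFinite.mem_toFinset.2 hψ)]
  rw [← Finset.add_sum_erase _ _ hx,
    Finset.sum_eq_zero fun y hy => secM_mul_secM hM hB (hne y hy) _ _, add_zero] at h
  exact h

theorem inducing_centralizer_singleton (hM : Cfsg.IsPModular p M) {x : G}
    (hx : ∃ k, orderOf x = p ^ k) [Fintype (Subgroup.centralizer ({x} : Set G))] :
    inducing M (Subgroup.centralizer ({x} : Set G)) B₀ =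
      Cfsg.principalBlock M (Subgroup.centralizer ({x} : Set G)) := by
  obtain ⟨k, hk⟩ := hx
  refine inducing_principalBlock (P := Subgroup.zpowers x) hM
    (IsPGroup.of_card (n := k) (by rw [Nat.card_zpowers, hk])) fun a => ?_
  rw [mem_centralizer_iff_comm]
  refine ⟨fun h u hu => ?_, fun h => h x (Subgroup.mem_zpowers x)⟩
  obtain ⟨i, rfl⟩ := hu
  exact ((show Commute x a from h).zpow_left i).eq

/-- The trace of a section projection is the rank of the principal block of the centraliser. -/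
theorem trace_secM (hM : Cfsg.IsPModular p M) {x : G} (hx : ∃ k, orderOf x = p ^ k) :
    ∑ᶠ χ ∈ B₀, secM p x (χ : G → ℂ) (χ : G → ℂ) =
      (Cfsg.blockRank p (Cfsg.principalBlock M (Subgroup.centralizer ({x} : Set G))) : ℂ) := by
  classical
  set C := Subgroup.centralizer ({x} : Set G)
  have hn : (Nat.card C : ℂ) ≠ 0 := Nat.cast_ne_zero.2 Nat.card_pos.ne'
  have h := card_mul_blockRank hM (isPBlock_principalBlock (G := C) M)
  rw [finsum_mem_eq_finite_toFinset_sum _ (Set.toFinite B₀)]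
  simp only [secM, ← Finset.mul_sum]
  rw [Finset.sum_comm, sum_pPart_fiber hM.1 hx, eq_comm, ← mul_right_inj' hn, ← mul_assoc,
    mul_inv_cancel₀ hn, one_mul, h]
  refine Finset.sum_congr rfl fun s _ => ?_
  by_cases hs : p ∣ orderOf s
  · rw [if_pos hs, if_pos hs]
  · rw [if_neg hs, if_neg hs, ← finsum_mem_eq_finite_toFinset_sum,
      section_identity (H := C) hM hx (fun a => mem_centralizer_iff_comm x a)
        (isPBlock_principalBlock M) hs hs, inducing_centralizer_singleton hM hx]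

theorem trace_secM_one (hM : Cfsg.IsPModular p M) :
    ∑ᶠ χ ∈ B₀, secM p 1 (χ : G → ℂ) (χ : G → ℂ) = (Cfsg.blockRank p B₀ : ℂ) := by
  classical
  have hC : Subgroup.centralizer ({1} : Set G) = ⊤ := by
    ext a; simp [Subgroup.mem_centralizer_singleton_iff]
  have hn : (Nat.card G : ℂ) ≠ 0 := Nat.cast_ne_zero.2 Nat.card_pos.ne'
  rw [finsum_mem_eq_finite_toFinset_sum _ (Set.toFinite B₀)]
  simp only [secM, ← Finset.mul_sum, hC, Subgroup.card_top]
  rw [Finset.sum_comm, inv_mul_eq_iff_eq_mul₀ hn,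
    card_mul_blockRank hM (isPBlock_principalBlock (G := G) M)]
  simp only [finsum_mem_eq_finite_toFinset_sum _ (Set.toFinite B₀)]
  rw [Finset.sum_ite, Finset.sum_const_zero, zero_add]
  exact Finset.sum_congr (Finset.filter_congr fun g _ => pPartOf_eq_one_iff hM.1 g) fun _ _ => rfl

/-- The number of characters is the sum of the ranks over the sections. -/
theorem card_principalBlock_eq [DecidableEq G] (hM : Cfsg.IsPModular p M) {X : Finset G}
    (hX : ∀ g : G, (∃ k : ℕ, orderOf g = p ^ k) → ∃! x, x ∈ X ∧ IsConj g x) (h1 : (1 : G) ∈ X)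
    (hXp : ∀ x ∈ X, ∃ k, orderOf x = p ^ k) :
    Nat.card B₀ = Cfsg.blockRank p B₀ + ∑ x ∈ X.erase 1,
      Cfsg.blockRank p (Cfsg.principalBlock M (Subgroup.centralizer ({x} : Set G))) := by
  classical
  apply Nat.cast_injective (R := ℂ)
  push_cast
  rw [← trace_secM_one hM, ← Finset.sum_congr rfl fun x hx =>
    trace_secM hM (hXp x (Finset.mem_of_mem_erase hx)),
    Finset.add_sum_erase X (fun x => ∑ᶠ χ ∈ B₀, secM p x (χ : G → ℂ) (χ : G → ℂ)) h1]
  simp only [finsum_mem_eq_finite_toFinset_sum _ (Set.toFinite B₀)]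
  rw [Finset.sum_comm, Finset.sum_congr rfl fun χ _ => (sum_secM hM.1 hX χ χ).trans (if_pos rfl),
    Finset.sum_const, nsmul_one, Nat.card_coe_set_eq,
    Set.ncard_eq_toFinset_card _ (Set.toFinite B₀)]

omit [Fintype G] in
/-- No member of the principal block vanishes at a p-element with centraliser of p'-index. -/
theorem apply_ne_zero_of_not_dvd_index [Finite G] (hM : Cfsg.IsPModular p M) {x : G}
    (hx : ¬ p ∣ (Subgroup.centralizer ({x} : Set G)).index) {χ : Cfsg.IrrCharacter G}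
    (hχ : χ ∈ B₀) : (χ : G → ℂ) x ≠ 0 := by
  intro h0
  have h := IsPBlock.sameBlock hM (isPBlock_principalBlock M) hχ
    (triv_mem_principalBlock hM) x
  rw [Cfsg.centralChar, Cfsg.centralChar, h0, mul_zero, zero_div, zero_sub,
    show (((triv G : Cfsg.IrrCharacter G) : G → ℂ) x) = 1 from rfl,
    show (((triv G : Cfsg.IrrCharacter G) : G → ℂ) 1) = 1 from rfl, mul_one, div_one] at h
  exact hx ((memLocalIdeal_natCast_iff hM _).1 (by simpa using memLocalIdeal_neg h))

/-- A section whose centraliser has principal block of rank one is constant on the block. -/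
theorem apply_mul_of_rank_one (hM : Cfsg.IsPModular p M) {x : G} (hx : ∃ k, orderOf x = p ^ k)
    (hl : Cfsg.blockRank p (Cfsg.principalBlock M (Subgroup.centralizer ({x} : Set G))) = 1)
    {χ : Cfsg.IrrCharacter G} (hχ : χ ∈ B₀) {s : G} (hs : x * s = s * x)
    (hsr : ¬ p ∣ orderOf s) : (χ : G → ℂ) (x * s) = (χ : G → ℂ) x := by
  classical
  set C := Subgroup.centralizer ({x} : Set G)
  have hconst := (BlockChar.blockRank_eq_one_iff hM).1 hl
  have hH : ∀ a : G, a ∈ C ↔ x * a = a * x := fun a => mem_centralizer_iff_comm x a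
  set K := ∑ᶠ ξ ∈ Cfsg.principalBlock M C, (ξ : C → ℂ) 1 * conj ((ξ : C → ℂ) 1)
  have key : ∀ a b : C, ¬ p ∣ orderOf a → ¬ p ∣ orderOf b →
      ∑ φ ∈ (Set.toFinite B₀).toFinset,
        (φ : G → ℂ) (x * (a : G)) * conj ((φ : G → ℂ) (x * (b : G))) = K := by
    intro a b ha hb
    rw [← finsum_mem_eq_finite_toFinset_sum,
      section_identity (H := C) hM hx hH (isPBlock_principalBlock M) ha hb,
      inducing_centralizer_singleton hM hx]
    exact finsum_congr fun ξ => finsum_congr fun hξ => by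
      rw [hconst ξ hξ a ha, hconst ξ hξ b hb]
  have h1 : ¬ p ∣ orderOf (1 : C) := by simpa using hM.1.ne_one
  set t : C := ⟨s, (hH s).2 hs⟩
  have ht : ¬ p ∣ orderOf t := by rwa [← Subgroup.orderOf_coe]
  have hsum : ∑ φ ∈ (Set.toFinite B₀).toFinset,
      ((φ : G → ℂ) (x * s) - (φ : G → ℂ) x) *
        conj ((φ : G → ℂ) (x * s) - (φ : G → ℂ) x) = 0 := by
    have e : ∀ φ : Cfsg.IrrCharacter G,
        ((φ : G → ℂ) (x * s) - (φ : G → ℂ) x) *
          conj ((φ : G → ℂ) (x * s) - (φ : G → ℂ) x) =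
        (φ : G → ℂ) (x * (t : G)) * conj ((φ : G → ℂ) (x * (t : G))) -
          (φ : G → ℂ) (x * (t : G)) * conj ((φ : G → ℂ) (x * ((1 : C) : G))) -
          (φ : G → ℂ) (x * ((1 : C) : G)) * conj ((φ : G → ℂ) (x * (t : G))) +
          (φ : G → ℂ) (x * ((1 : C) : G)) * conj ((φ : G → ℂ) (x * ((1 : C) : G))) := fun φ => by
      simp only [t, Subgroup.coe_one, mul_one, map_sub]; ring
    simp only [e]
    rw [Finset.sum_add_distrib, Finset.sum_sub_distrib, Finset.sum_sub_distrib,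
      key t t ht ht, key t 1 ht h1, key 1 t h1 ht, key 1 1 h1 h1]
    ring
  have hsum' := congrArg Complex.re hsum
  simp only [Complex.mul_conj, Complex.re_sum, Complex.ofReal_re, Complex.zero_re] at hsum'
  exact sub_eq_zero.1 (Complex.normSq_eq_zero.1
    ((Finset.sum_eq_zero_iff_of_nonneg fun φ _ => Complex.normSq_nonneg _).1 hsum' χ
      ((Set.toFinite B₀).mem_toFinset.2 hχ)))

/-- If the centraliser of `x` has a normal p-complement, its section projection has rank one. -/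
theorem secM_of_complement (hM : Cfsg.IsPModular p M) {x : G} (hx : ∃ k, orderOf x = p ^ k)
    (hC : Cfsg.HasNormalPComplement p (Subgroup.centralizer ({x} : Set G))) (P : Sylow p G)
    (hP : (P : Subgroup G) ≤ Subgroup.centralizer ({x} : Set G)) (χ ψ : Cfsg.IrrCharacter G)
    (hχ : χ ∈ B₀) (hψ : ψ ∈ B₀) :
    secM p x (χ : G → ℂ) (ψ : G → ℂ) =
      (χ : G → ℂ) x * conj ((ψ : G → ℂ) x) / (Nat.card P : ℂ) := by
  classical
  have := Fact.mk hM.1
  set C := Subgroup.centralizer ({x} : Set G)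
  have hl : Cfsg.blockRank p (Cfsg.principalBlock M C) = 1 :=
    (BlockChar.blockRank_eq_one_iff hM).2 fun ξ hξ y hy =>
      BlockChar.const_of_hasNormalPComplement hM hC hξ hy
  have hcount : Nat.card (Cfsg.pResidual p C) * Nat.card P = Nat.card C := by
    rw [← (Fusion.isComplement'_pResidual hC (P.subtype hP)).card_mul_card, Sylow.coe_subtype,
      Nat.card_congr (Subgroup.subgroupOfEquivOfLe hP).toEquiv]
  rw [secM, sum_pPart_fiber hM.1 hx, Finset.sum_congr rfl
    (g := fun s : C => if s ∈ Cfsg.pResidual p C then (χ : G → ℂ) x * conj ((ψ : G → ℂ) x) else 0)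
    (fun s _ => ?_), Finset.sum_ite, Finset.sum_const_zero, add_zero, Finset.sum_const,
    nsmul_eq_mul, ← Fintype.card_subtype, ← Nat.card_eq_fintype_card, ← hcount]
  · have h1 : (Nat.card (Cfsg.pResidual p C) : ℂ) ≠ 0 := Nat.cast_ne_zero.2 Nat.card_pos.ne'
    have h2 : (Nat.card P : ℂ) ≠ 0 := Nat.cast_ne_zero.2 Nat.card_pos.ne'
    have h3 : (Nat.card C : ℂ) = Nat.card (Cfsg.pResidual p C) * Nat.card P := by
      rw [← hcount, Nat.cast_mul]
    rw [Nat.cast_mul]
    field_simp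
  · have hiff : s ∈ Cfsg.pResidual p C ↔ ¬ p ∣ orderOf s :=
      (Fusion.mem_pResidual_iff hC).trans (BlockChar.coprime_orderOf_iff hM.1 s)
    by_cases hs : p ∣ orderOf s
    · rw [if_pos hs, if_neg (fun h => hiff.1 h hs)]
    · have hcomm := (mem_centralizer_iff_comm x (s : G)).1 s.2
      have hsr : ¬ p ∣ orderOf (s : G) := by rwa [Subgroup.orderOf_coe]
      rw [if_neg hs, if_pos (hiff.2 hs), apply_mul_of_rank_one hM hx hl hχ hcomm hsr,
        apply_mul_of_rank_one hM hx hl hψ hcomm hsr]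

end Cfsg.Agent.SmallAbelian
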