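import Cfsg.Agent.BlockChar.PrincipalQuotient
import Cfsg.Agent.Fusion.Transfer

/-!
# The automorphisms induced on a Sylow subgroup, and passing to `C(x)/⟨x⟩`
-/

namespace Cfsg.Agent.SmallAbelian

open Cfsg.Agent MulAction

universe u

variable {G : Type u} [Group G]

/-- The automorphisms of `P` induced by its normaliser. -/
def autGrp (P : Subgroup G) : Subgroup (MulAut P) := P.normalizerMonoidHom.range

theorem card_autGrp (P : Subgroup G) :
    Nat.card (autGrp P) = (Subgroup.centralizer (P : Set G)).relIndex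
      (Subgroup.normalizer (P : Set G)) := by
  rw [autGrp, ← Subgroup.index_ker, Subgroup.normalizerMonoidHom_ker]
  rfl

theorem card_stabilizer_autGrp (P : Subgroup G) (u : P) :
    Nat.card (stabilizer (autGrp P) u) = (Subgroup.centralizer (P : Set G)).relIndex
      (Subgroup.normalizer (P : Set G) ⊓ Subgroup.centralizer ({(u : G)} : Set G)) := by
  set N := Subgroup.normalizer (P : Set G)
  set f := P.normalizerMonoidHom with hf
  set K := (Subgroup.centralizer ({(u : G)} : Set G)).subgroupOf N with hK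
  have h1 : f.ker.relIndex K = Nat.card (K.map f) := Subgroup.relIndex_ker K f
  have h2 : (stabilizer (autGrp P) u).map (autGrp P).subtype = K.map f := by
    ext φ
    constructor
    · rintro ⟨⟨_, n, rfl⟩, hn, rfl⟩
      refine ⟨n, ?_, rfl⟩
      show (n : G) ∈ Subgroup.centralizer ({(u : G)} : Set G)
      have h : (n : G) * u * (n : G)⁻¹ = u := congrArg Subtype.val hn
      rw [Subgroup.mem_centralizer_singleton_iff]
      exact mul_inv_eq_iff_eq_mul.1 h
    · rintro ⟨n, hn, rfl⟩
      refine ⟨⟨f n, n, rfl⟩, Subtype.ext ?_, rfl⟩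
      show (n : G) * u * (n : G)⁻¹ = u
      have h := Subgroup.mem_centralizer_singleton_iff.1
        (show (n : G) ∈ Subgroup.centralizer ({(u : G)} : Set G) from hn)
      rw [h, mul_inv_cancel_right]
  rw [← Subgroup.card_map_of_injective (autGrp P).subtype_injective, h2, ← h1, hf,
    Subgroup.normalizerMonoidHom_ker, hK, Subgroup.subgroupOf, Subgroup.relIndex_comap]
  congr 1
  exact (Subgroup.subgroupOf_map_subtype _ _).trans (inf_comm _ _)

theorem isConj_iff_mem_orbit [Finite G] {p : ℕ} [Fact p.Prime] (P : Sylow p G)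
    (hab : IsMulCommutative (P : Subgroup G)) (u v : (P : Subgroup G)) :
    IsConj (u : G) (v : G) ↔ v ∈ orbit (autGrp (P : Subgroup G)) u := by
  constructor
  · intro h
    obtain ⟨g, hg⟩ := isConj_iff.1 h
    obtain ⟨t, ht, htu⟩ := Fusion.exists_mem_normalizer_conj_of_isMulCommutative P hab u.2 g
      (hg ▸ v.2)
    exact ⟨⟨_, ⟨t, ht⟩, rfl⟩, Subtype.ext (htu.trans hg)⟩
  · rintro ⟨⟨_, n, rfl⟩, hn⟩
    exact isConj_iff.2 ⟨n, congrArg Subtype.val hn⟩

/-- Orbit representatives in an abelian Sylow subgroup represent the classes of p-elements. -/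
theorem existsUnique_rep [Finite G] {p : ℕ} [Fact p.Prime] (P : Sylow p G)
    (hab : IsMulCommutative (P : Subgroup G)) (X : Finset (P : Subgroup G))
    (hcov : ∀ u, ∃ x ∈ X, u ∈ orbit (autGrp (P : Subgroup G)) x)
    (huniq : ∀ x ∈ X, ∀ y ∈ X, y ∈ orbit (autGrp (P : Subgroup G)) x → x = y) (g : G)
    (hg : ∃ k : ℕ, orderOf g = p ^ k) :
    ∃! x, x ∈ X.map (Function.Embedding.subtype _) ∧ IsConj g x := by
  obtain ⟨k, hk⟩ := hg
  obtain ⟨Q, hQ⟩ := (IsPGroup.of_card (n := k) (by rw [Nat.card_zpowers, hk]) :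
    IsPGroup p (Subgroup.zpowers g)).exists_le_sylow
  obtain ⟨c, hc⟩ := MulAction.exists_smul_eq G Q P
  have hu : c * g * c⁻¹ ∈ (P : Subgroup G) := by
    rw [← hc]
    exact Subgroup.smul_mem_pointwise_smul g (MulAut.conj c) _ (hQ (Subgroup.mem_zpowers g))
  have hgu : IsConj g (c * g * c⁻¹) := isConj_iff.2 ⟨c, rfl⟩
  obtain ⟨x, hx, hxu⟩ := hcov ⟨_, hu⟩
  refine ⟨x, ⟨Finset.mem_map_of_mem _ hx,
    hgu.trans ((isConj_iff_mem_orbit P hab _ _).2 hxu).symm⟩, ?_⟩
  rintro y ⟨hy, hgy⟩
  obtain ⟨y', hy', rfl⟩ := Finset.mem_map.1 hy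
  refine congrArg Subtype.val (huniq x hx y' hy' ((isConj_iff_mem_orbit P hab _ _).1 ?_)).symm
  exact (((isConj_iff_mem_orbit P hab _ _).2 hxu).trans hgu.symm).trans hgy

theorem isMulCommutative_of_sq {A : Type*} [Group A] (h : ∀ a : A, a ^ 2 = 1) :
    IsMulCommutative A := by
  have hinv : ∀ a : A, a⁻¹ = a := fun a => inv_eq_of_mul_eq_one_right (by rw [← pow_two, h])
  refine IsMulCommutative.of_comm fun a b => ?_
  rw [← hinv (a * b), mul_inv_rev, hinv, hinv]

/-- The rank of the principal block of the centraliser of an involution of an elementary abelian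
Sylow 2-subgroup is that of a group with a smaller Sylow subgroup. -/
theorem rank_centralizer_step [Finite G] {M : Ideal Cfsg.AlgInt} (hM : Cfsg.IsPModular 2 M)
    (P : Sylow 2 G) (hel : ∀ x : P, x ^ 2 = 1) {x : G} (hx : x ∈ (P : Subgroup G)) (hx1 : x ≠ 1)
    {q e r : ℕ} (hq : Nat.card P = 2 * q) (he : Odd e)
    (hidx : (Subgroup.centralizer ((P : Subgroup G) : Set G)).relIndex
      (Subgroup.normalizer ((P : Subgroup G) : Set G) ⊓ Subgroup.centralizer ({x} : Set G)) = e)
    (hrec : ∀ (H : Type u) [Group H] [Finite H] (Q : Sylow 2 H), Nat.card Q = q →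
      (∀ z : Q, z ^ 2 = 1) → (Subgroup.centralizer ((Q : Subgroup H) : Set H)).relIndex
        (Subgroup.normalizer ((Q : Subgroup H) : Set H)) = e →
      Cfsg.blockRank 2 (Cfsg.principalBlock M H) = r) :
    Cfsg.blockRank 2 (Cfsg.principalBlock M (Subgroup.centralizer ({x} : Set G))) = r := by
  classical
  have := Fact.mk hM.1
  have hcomm : ∀ a ∈ (P : Subgroup G), ∀ b ∈ (P : Subgroup G), a * b = b * a := fun a ha b hb =>
    congrArg Subtype.val ((isMulCommutative_of_sq hel).is_comm.comm ⟨a, ha⟩ ⟨b, hb⟩)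
  have hsq : x * x = 1 := by
    have := congrArg Subtype.val (hel ⟨x, hx⟩)
    rwa [Subgroup.coe_pow, Subgroup.coe_one, pow_two] at this
  set C := Subgroup.centralizer ({x} : Set G) with hC
  have hPC : (P : Subgroup G) ≤ C := fun a ha =>
    Subgroup.mem_centralizer_singleton_iff.2 (hcomm a ha x hx)
  let PC := P.subtype hPC
  set xC : C := ⟨x, hPC hx⟩
  set Z := Subgroup.zpowers xC
  have hxC : ∀ c : C, c * xC = xC * c := fun c =>
    Subtype.ext (Subgroup.mem_centralizer_singleton_iff.1 c.2)
  have hZc : Z ≤ Subgroup.center C := by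
    rw [Subgroup.zpowers_le]
    exact Subgroup.mem_center_iff.2 hxC
  have : Z.Normal := ⟨fun a ha c => by
    rw [Subgroup.mem_center_iff.1 (hZc ha) c, mul_inv_cancel_right]; exact ha⟩
  have ho : orderOf xC = 2 := orderOf_eq_prime (Subtype.ext (by
    rw [Subgroup.coe_pow, pow_two, Subgroup.coe_one]; exact hsq))
    fun h => hx1 (congrArg Subtype.val h)
  have hZcard : Nat.card Z = 2 := (Nat.card_zpowers xC).trans ho
  have hZp : IsPGroup 2 Z := IsPGroup.of_card (n := 1) (by rw [hZcard, pow_one])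
  have hcent : Subgroup.centralizer (Z : Set C) = ⊤ := Subgroup.centralizer_eq_top_iff_subset.2 hZc
  rw [BlockChar.blockRank_principal_quotient Z hM hZp (by rw [hcent, sup_top_eq])]
  set π := QuotientGroup.mk' Z
  have hπ : Function.Surjective π := QuotientGroup.mk'_surjective Z
  let Q := PC.mapSurjective hπ
  have hZP : Z ≤ (PC : Subgroup C) := Subgroup.zpowers_le.2 (Subgroup.mem_subgroupOf.2 hx)
  have hQ : (Q : Subgroup (C ⧸ Z)) = (PC : Subgroup C).map π := rfl
  refine hrec (C ⧸ Z) Q ?_ (fun z => ?_) ?_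
  · have h1 : (⊥ : Subgroup (C ⧸ Z)).comap π = Z := by
      rw [MonoidHom.comap_bot, QuotientGroup.ker_mk']
    have h2 : Nat.card (Q : Subgroup (C ⧸ Z)) * 2 = 2 * q := by
      have h3 := Subgroup.card_mul_index (π.ker.subgroupOf (PC : Subgroup C))
      have h4 : (π.ker.subgroupOf (PC : Subgroup C)).index = Nat.card (Q : Subgroup (C ⧸ Z)) :=
        Subgroup.relIndex_ker _ π
      rw [h4, QuotientGroup.ker_mk', Nat.card_congr (Subgroup.subgroupOfEquivOfLe hZP).toEquiv,
        hZcard] at h3
      have h5 : Nat.card (PC : Subgroup C) = Nat.card P :=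
        Nat.card_congr (Subgroup.subgroupOfEquivOfLe hPC).toEquiv
      rw [h5, hq] at h3
      linarith
    exact by omega
  · have hz' : (z : C ⧸ Z) ∈ (PC : Subgroup C).map π := z.2
    obtain ⟨a, ha, hz⟩ := Subgroup.mem_map.1 hz'
    have h := congrArg Subtype.val (hel ⟨(a : G), Subgroup.mem_subgroupOf.1 ha⟩)
    refine Subtype.ext ?_
    rw [Subgroup.coe_pow, ← hz, ← map_pow, show a ^ 2 = 1 from Subtype.ext h, map_one]
    rfl
  · -- the index
    set NP := Subgroup.normalizer ((P : Subgroup G) : Set G)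
    set CP := Subgroup.centralizer ((P : Subgroup G) : Set G)
    have hcomapQ : (Q : Subgroup (C ⧸ Z)).comap π = (PC : Subgroup C) := by
      rw [hQ, Subgroup.comap_map_eq, QuotientGroup.ker_mk', sup_eq_left.2 hZP]
    have hNQ : (Subgroup.normalizer ((Q : Subgroup (C ⧸ Z)) : Set (C ⧸ Z))).comap π =
        NP.subgroupOf C := by
      rw [Subgroup.comap_normalizer_eq_of_surjective _ hπ, hcomapQ]
      exact (Subgroup.subgroupOf_normalizer_eq hPC).symm
    set D := (Subgroup.centralizer ((Q : Subgroup (C ⧸ Z)) : Set (C ⧸ Z))).comap π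
    have key : D.relIndex (NP.subgroupOf C) = e := by
      have hCN : (CP.subgroupOf C).relIndex (NP.subgroupOf C) = e := by
        rw [Subgroup.subgroupOf, Subgroup.relIndex_comap,
          Subgroup.subgroupOf_map_subtype]
        exact hidx
      rw [← hCN, ← Subgroup.inf_relIndex_right D, ← Subgroup.inf_relIndex_right (CP.subgroupOf C)]
      congr 1
      refine le_antisymm (fun n hn => ⟨?_, hn.2⟩) fun n hn => ⟨?_, hn.2⟩
      · refine Subgroup.mem_centralizer_iff.2 fun z hz => ?_
        have hz' : z ∈ (PC : Subgroup C).map π := hz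
        obtain ⟨a, ha, rfl⟩ := Subgroup.mem_map.1 hz'
        have h : (a : G) * n = n * a :=
          Subgroup.mem_centralizer_iff.1 (Subgroup.mem_subgroupOf.1 hn.1) _
            (Subgroup.mem_subgroupOf.1 ha)
        show π a * π n = π n * π a
        rw [← map_mul, ← map_mul, show a * n = n * a from Subtype.ext h]
      · obtain ⟨hnD, hnN⟩ := hn
        -- `n ^ 2` centralizes `P` and an odd power of `n` too
        have h1 : ∀ a ∈ (P : Subgroup G), (n : G) * a * (n : G)⁻¹ = a ∨
            (n : G) * a * (n : G)⁻¹ = a * x := by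
          intro a ha
          have h2 : π n * π ⟨a, hPC ha⟩ = π ⟨a, hPC ha⟩ * π n :=
            ((Subgroup.mem_centralizer_iff.1 hnD) _ (show π ⟨a, hPC ha⟩ ∈ (Q : Subgroup (C ⧸ Z))
              from hQ ▸ Subgroup.mem_map_of_mem π (Subgroup.mem_subgroupOf.2 ha))).symm
          have h3 : (⟨a, hPC ha⟩ : C)⁻¹ * (n * ⟨a, hPC ha⟩ * n⁻¹) ∈ Z := by
            rw [← QuotientGroup.ker_mk' Z, MonoidHom.mem_ker]
            simp only [map_mul, map_inv]
            change (π ⟨a, hPC ha⟩)⁻¹ * (π n * π ⟨a, hPC ha⟩ * (π n)⁻¹) = 1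
            rw [h2]; group
          obtain ⟨i, hi⟩ := h3
          have h4 := congrArg Subtype.val hi
          simp only [Subgroup.coe_zpow, Subgroup.coe_mul, Subgroup.coe_inv] at h4
          rw [eq_inv_mul_iff_mul_eq] at h4
          rcases Int.even_or_odd' i with ⟨j, rfl | rfl⟩
          · left; rw [← h4, zpow_mul, zpow_two, hsq, one_zpow, mul_one]
          · right; rw [← h4, zpow_add, zpow_mul, zpow_two, hsq, one_zpow, one_mul, zpow_one]
        have hn2 : (n : G) ^ 2 ∈ CP := by
          refine Subgroup.mem_centralizer_iff.2 fun a ha => ?_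
          have e2 : (n : G) ^ 2 * a * ((n : G) ^ 2)⁻¹ = a := by
            have e1 : (n : G) ^ 2 * a * ((n : G) ^ 2)⁻¹ =
                (n : G) * ((n : G) * a * (n : G)⁻¹) * (n : G)⁻¹ := by
              rw [pow_two]; group
            rw [e1]
            rcases h1 a ha with h | h
            · rw [h, h]
            · have hnx : (n : G) * x * (n : G)⁻¹ = x := by
                rw [Subgroup.mem_centralizer_singleton_iff.1 n.2, mul_inv_cancel_right]
              rw [h, show (n : G) * (a * x) * (n : G)⁻¹ =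
                ((n : G) * a * (n : G)⁻¹) * ((n : G) * x * (n : G)⁻¹) by group, h, hnx, mul_assoc,
                hsq, mul_one]
          exact (mul_inv_eq_iff_eq_mul.1 e2).symm
        have hne : (n : G) ^ e ∈ CP := by
          have hn' : (n : G) ∈ NP ⊓ C := ⟨hnN, n.2⟩
          have : (CP.subgroupOf (NP ⊓ C)).Normal := by
            refine ⟨fun a ha b => Subgroup.mem_subgroupOf.2
              (Subgroup.mem_centralizer_iff.2 fun z hz => ?_)⟩
            have hz' : (b : G)⁻¹ * z * b ∈ (P : Subgroup G) :=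
              (Subgroup.mem_normalizer_iff''.1 b.2.1 z).1 hz
            have h := Subgroup.mem_centralizer_iff.1 (Subgroup.mem_subgroupOf.1 ha) _ hz'
            simp only [Subgroup.coe_mul, Subgroup.coe_inv]
            calc z * ((b : G) * a * (b : G)⁻¹) = b * (((b : G)⁻¹ * z * b) * a) * (b : G)⁻¹ := by
                  group
              _ = b * ((a : G) * ((b : G)⁻¹ * z * b)) * (b : G)⁻¹ := by rw [h]
              _ = b * a * (b : G)⁻¹ * z := by group
          have h := (CP.subgroupOf (NP ⊓ C)).pow_index_mem ⟨_, hn'⟩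
          rw [show (CP.subgroupOf (NP ⊓ C)).index = e from hidx] at h
          exact h
        show (n : G) ∈ CP
        obtain ⟨m, rfl⟩ := he
        rw [pow_succ, pow_mul] at hne
        exact (CP.mul_mem_cancel_left (pow_mem hn2 m)).1 hne
    rw [← key, ← hNQ, Subgroup.relIndex_comap, Subgroup.map_comap_eq_self_of_surjective hπ]

end Cfsg.Agent.SmallAbelian
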