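import Cfsg.Agent.SmallAbelian.Elem
import Cfsg.Agent.SmallAbelian.Sections
import Cfsg.Agent.SmallAbelian.Step
import Cfsg.Agent.SmallOrder.Involution
import Cfsg.Agent.S4512

/-!
# Principal blocks with elementary abelian Sylow subgroups of order 4 and 8, inertial index 3
-/

namespace Cfsg.Agent.SmallAbelian

open scoped ComplexConjugate
open Cfsg.Agent Cfsg.Agent.Blocks MulAction

universe u

variable {G : Type u} [Group G] {M : Ideal Cfsg.AlgInt}

/-- A trivial stabiliser gives a normal complement in the centraliser (Burnside). -/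
theorem complement_centralizer_of_stabilizer [Finite G] {p : ℕ} [Fact p.Prime] (P : Sylow p G)
    (hab : IsMulCommutative (P : Subgroup G)) (u : (P : Subgroup G))
    (hu : stabilizer (autGrp (P : Subgroup G)) u = ⊥) :
    (P : Subgroup G) ≤ Subgroup.centralizer ({(u : G)} : Set G) ∧
      Cfsg.HasNormalPComplement p (Subgroup.centralizer ({(u : G)} : Set G)) := by
  set C := Subgroup.centralizer ({(u : G)} : Set G)
  have hPC : (P : Subgroup G) ≤ C := fun a ha => Subgroup.mem_centralizer_singleton_iff.2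
    (congrArg Subtype.val (hab.is_comm.comm ⟨a, ha⟩ u))
  have h1 : (Subgroup.centralizer ((P : Subgroup G) : Set G)).relIndex
      (Subgroup.normalizer ((P : Subgroup G) : Set G) ⊓ C) = 1 := by
    rw [← card_stabilizer_autGrp, hu, Subgroup.card_bot]
  have hle := Subgroup.relIndex_eq_one.1 h1
  refine ⟨hPC, Fusion.hasNormalPComplement_of_normalizer_le_centralizer (P.subtype hPC) ?_⟩
  intro n hn
  have hn' : (n : G) ∈ Subgroup.normalizer ((P : Subgroup G) : Set G) := by
    replace hn : n ∈ Subgroup.normalizer (((P : Subgroup G).subgroupOf C : Subgroup C) : Set C) :=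
      hn
    rw [← Subgroup.subgroupOf_normalizer_eq hPC] at hn
    exact hn
  refine Subgroup.mem_centralizer_iff.2 fun a ha => Subtype.ext ?_
  exact Subgroup.mem_centralizer_iff.1 (hle ⟨hn', n.2⟩) _ (Subgroup.mem_subgroupOf.1 ha)

theorem rank_one_of_complement [Finite G] (hM : Cfsg.IsPModular 2 M)
    (h : Cfsg.HasNormalPComplement 2 G) : Cfsg.blockRank 2 (Cfsg.principalBlock M G) = 1 :=
  (BlockChar.blockRank_eq_one_iff hM).2 fun _ hξ _ hy =>
    BlockChar.const_of_hasNormalPComplement hM h hξ hy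

theorem not_two_dvd_index_centralizer [Finite G] (P : Sylow 2 G)
    (hab : IsMulCommutative (P : Subgroup G)) {u : G} (hu : u ∈ (P : Subgroup G)) :
    ¬ 2 ∣ (Subgroup.centralizer ({u} : Set G)).index := fun h => by
  have := Fact.mk Nat.prime_two
  refine P.not_dvd_index (h.trans (Subgroup.index_dvd_of_le fun a ha => ?_))
  exact Subgroup.mem_centralizer_singleton_iff.2
    (congrArg Subtype.val (hab.is_comm.comm ⟨a, ha⟩ ⟨u, hu⟩))

/-- Character values of the principal block at an involution of an abelian Sylow 2-subgroup. -/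
theorem exists_int_value [Finite G] (hM : Cfsg.IsPModular 2 M) (P : Sylow 2 G)
    (hel : ∀ x : P, x ^ 2 = 1) {u : (P : Subgroup G)} (hu : u ≠ 1) (χ : Cfsg.IrrCharacter G) :
    ∃ d : ℤ, (χ : G → ℂ) (u : G) = d ∧ (χ ∈ Cfsg.principalBlock M G → d ≠ 0) := by
  have ho : orderOf (u : G) = 2 := by
    have := Fact.mk Nat.prime_two
    rw [Subgroup.orderOf_coe]
    exact orderOf_eq_prime (hel u) hu
  obtain ⟨d, hd⟩ := SmallOrder.exists_int_apply_involution (Char.IsIrr.isCharacter χ.2) ho
  refine ⟨d, hd, fun hχ h0 => ?_⟩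
  refine apply_ne_zero_of_not_dvd_index hM
    (not_two_dvd_index_centralizer P (isMulCommutative_of_sq hel) u.2) hχ ?_
  rw [hd, h0, Int.cast_zero]

theorem rank_four [Finite G] (hM : Cfsg.IsPModular 2 M) (P : Sylow 2 G) (hP : Nat.card P = 4)
    (hel : ∀ x : P, x ^ 2 = 1)
    (he : (Subgroup.centralizer ((P : Subgroup G) : Set G)).relIndex
      (Subgroup.normalizer ((P : Subgroup G) : Set G)) = 3) :
    Cfsg.blockRank 2 (Cfsg.principalBlock M G) = 3 := by
  have := Fact.mk Nat.prime_two
  refine Agent.S4512.result M hM P hP (fun x => by rw [← pow_two]; exact hel x) fun s t hs ht => ?_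
  have hconj : ∀ s : G, orderOf s = 2 → ∃ a : (P : Subgroup G), a ≠ 1 ∧ IsConj s (a : G) := by
    intro s hs
    obtain ⟨Q, hQ⟩ := (IsPGroup.of_card (n := 1) (by rw [Nat.card_zpowers, hs, pow_one]) :
      IsPGroup 2 (Subgroup.zpowers s)).exists_le_sylow
    obtain ⟨c, hc⟩ := MulAction.exists_smul_eq G Q P
    have hu : c * s * c⁻¹ ∈ (P : Subgroup G) := by
      rw [← hc]
      exact Subgroup.smul_mem_pointwise_smul s (MulAut.conj c) _ (hQ (Subgroup.mem_zpowers s))
    refine ⟨⟨_, hu⟩, fun h => ?_, isConj_iff.2 ⟨c, rfl⟩⟩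
    have h1 : c * s * c⁻¹ = 1 := congrArg Subtype.val h
    rw [conj_eq_one_iff] at h1
    rw [h1, orderOf_one] at hs
    omega
  obtain ⟨a, ha, hsa⟩ := hconj s hs
  obtain ⟨b, hb, htb⟩ := hconj t ht
  refine (hsa.trans ?_).trans htb.symm
  exact (isConj_iff_mem_orbit P (isMulCommutative_of_sq hel) a b).2
    (orbit_four hP ((card_autGrp _).trans he) ha hb)

/-- Three Brauer characters for a group of order 8 and inertial index 3. -/
theorem rank_eight [Finite G] (hM : Cfsg.IsPModular 2 M) (P : Sylow 2 G) (hP : Nat.card P = 8)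
    (hel : ∀ x : P, x ^ 2 = 1)
    (he : (Subgroup.centralizer ((P : Subgroup G) : Set G)).relIndex
      (Subgroup.normalizer ((P : Subgroup G) : Set G)) = 3) :
    Cfsg.blockRank 2 (Cfsg.principalBlock M G) = 3 := by
  classical
  have := Fact.mk Nat.prime_two
  have := Fintype.ofFinite G
  have hab := isMulCommutative_of_sq hel
  have hE : Nat.card (autGrp (P : Subgroup G)) = 3 := (card_autGrp _).trans he
  obtain ⟨f, v, w, hf, hv, hw, hfv, hfw, hwv, hsf, hsv, hsw, hcov⟩ := orbit_eight hP hE
  set X₀ : Finset (P : Subgroup G) := {1, f, v, w} with hX₀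
  have hself : ∀ a : (P : Subgroup G), a ∈ orbit (autGrp (P : Subgroup G)) a := mem_orbit_self
  have hsym : ∀ {a b : (P : Subgroup G)}, b ∈ orbit (autGrp (P : Subgroup G)) a →
      a ∈ orbit (autGrp (P : Subgroup G)) b := fun {a b} h => mem_orbit_symm.1 h
  have hX : ∀ g : G, (∃ k : ℕ, orderOf g = 2 ^ k) →
      ∃! x, x ∈ X₀.map (Function.Embedding.subtype _) ∧ IsConj g x := by
    refine existsUnique_rep P hab X₀ (fun a => ?_) ?_
    · rcases hcov a with h | h | h | h
      · exact ⟨1, by simp [hX₀], h ▸ hself 1⟩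
      · exact ⟨f, by simp [hX₀], h ▸ hself f⟩
      · exact ⟨v, by simp [hX₀], h⟩
      · exact ⟨w, by simp [hX₀], h⟩
    · intro a ha b hb hab'
      simp only [hX₀, Finset.mem_insert, Finset.mem_singleton] at ha hb
      rcases ha with ha | ha | ha | ha <;> rcases hb with hb | hb | hb | hb <;>
        subst ha <;> subst hb <;> try rfl
      all_goals first
        | exact absurd hab' (one_notMem_orbit ‹_ ≠ (1 : (P : Subgroup G))›)
        | exact absurd (hsym hab') (one_notMem_orbit ‹_ ≠ (1 : (P : Subgroup G))›)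
        | exact absurd hab' hfv
        | exact absurd (hsym hab') hfv
        | exact absurd hab' hfw
        | exact absurd (hsym hab') hfw
        | exact absurd hab' hwv
        | exact absurd (hsym hab') hwv
  have hfv' : f ≠ v := fun h => hfv (h ▸ hself v)
  have hfw' : f ≠ w := fun h => hfw (h ▸ hself w)
  have hvw' : v ≠ w := fun h => hwv (h ▸ hself v)
  -- the ranks at the singular sections
  have hlf : Cfsg.blockRank 2
      (Cfsg.principalBlock M (Subgroup.centralizer ({(f : G)} : Set G))) = 3 := by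
    refine rank_centralizer_step hM P hel f.2 (fun h => hf (Subtype.ext h)) (q := 4) (e := 3)
      (by omega) (by decide) ?_ fun H _ _ Q hQ hQe hQi => rank_four hM Q hQ hQe hQi
    rw [← card_stabilizer_autGrp, hsf, Subgroup.card_top, hE]
  obtain ⟨hPv, hcv⟩ := complement_centralizer_of_stabilizer P hab v hsv
  obtain ⟨-, hcw⟩ := complement_centralizer_of_stabilizer P hab w hsw
  have hlv := rank_one_of_complement hM hcv
  have hlw := rank_one_of_complement hM hcw
  have hXp : ∀ a ∈ X₀.map (Function.Embedding.subtype _), ∃ k, orderOf a = 2 ^ k := by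
    intro a ha
    obtain ⟨b, -, rfl⟩ := Finset.mem_map.1 ha
    obtain ⟨k, hk⟩ := IsPGroup.iff_orderOf.1 P.2 b
    exact ⟨k, (Subgroup.orderOf_coe b).trans hk⟩
  have hk := card_principalBlock_eq hM hX (Finset.mem_map.2 ⟨1, by simp [hX₀], rfl⟩) hXp
  have he1 : (X₀.map (Function.Embedding.subtype _)).erase 1 =
      ({f, v, w} : Finset (P : Subgroup G)).map (Function.Embedding.subtype _) := by
    rw [show (1 : G) = Function.Embedding.subtype (· ∈ (P : Subgroup G)) 1 from rfl,
      ← Finset.map_erase, hX₀, Finset.erase_insert (by simp [hf.symm, hv.symm, hw.symm])]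
  rw [he1, Finset.sum_map, Finset.sum_insert (by simp [hfv', hfw']),
    Finset.sum_pair hvw'] at hk
  replace hk : Nat.card (Cfsg.principalBlock M G) =
      Cfsg.blockRank 2 (Cfsg.principalBlock M G) + (3 + (1 + 1)) :=
    hk.trans (congrArg _ (congrArg₂ _ hlf (congrArg₂ _ hlv hlw)))
  -- the column at `v`
  set B := Cfsg.principalBlock M G
  choose d hd hd0 using fun χ => exists_int_value (M := M) hM P hel hv χ
  have htr := trace_secM hM (x := (v : G)) ⟨1, by
    rw [pow_one, Subgroup.orderOf_coe]; exact orderOf_eq_prime (hel v) hv⟩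
  rw [hlv, finsum_mem_eq_finite_toFinset_sum _ B.toFinite] at htr
  rw [Finset.sum_congr rfl (g := fun χ => ((d χ ^ 2 : ℤ) : ℂ) / 8) fun χ hχ => by
    have hχ' := B.toFinite.mem_toFinset.1 hχ
    rw [secM_of_complement hM ⟨1, by
      rw [pow_one, Subgroup.orderOf_coe]; exact orderOf_eq_prime (hel v) hv⟩ hcv P hPv χ χ hχ' hχ',
      hP, hd χ, map_intCast]
    push_cast; ring, ← Finset.sum_div, Nat.cast_one, div_eq_one_iff_eq (by norm_num)] at htr
  have hsum : ∑ χ ∈ B.toFinite.toFinset, d χ ^ 2 = 8 := by exact_mod_cast htr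
  have hnn : ∀ χ ∈ B.toFinite.toFinset, 0 ≤ d χ ^ 2 - 1 := fun χ hχ => by
    have := sq_pos_of_ne_zero (hd0 χ (B.toFinite.mem_toFinset.1 hχ)); omega
  have hcard : Nat.card B = B.toFinite.toFinset.card := by
    rw [Nat.card_coe_set_eq, Set.ncard_eq_toFinset_card _ B.toFinite]
  have hone : ∀ χ ∈ B.toFinite.toFinset, d χ ^ 2 - 1 = 0 := by
    intro χ hχ
    have h1 := Finset.single_le_sum hnn hχ
    rw [Finset.sum_sub_distrib, hsum, Finset.sum_const, nsmul_one] at h1
    have hl : 0 < Cfsg.blockRank 2 B :=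
      BlockChar.blockRank_pos hM (isPBlock_principalBlock M)
    have h2 := hd0 χ (B.toFinite.mem_toFinset.1 hχ)
    have h5 : (6 : ℤ) ≤ B.toFinite.toFinset.card := by
      exact_mod_cast (show 6 ≤ B.toFinite.toFinset.card by omega)
    have h3 : -1 ≤ d χ ∧ d χ ≤ 1 := by constructor <;> nlinarith
    obtain ⟨h3, h4⟩ := h3
    rcases (by omega : d χ = 1 ∨ d χ = -1) with h | h <;> rw [h] <;> norm_num
  have h8 : Nat.card B = 8 := by
    have h0 := Finset.sum_eq_zero hone
    rw [Finset.sum_sub_distrib, hsum, Finset.sum_const, nsmul_one] at h0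
    omega
  omega

end Cfsg.Agent.SmallAbelian
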