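import Cfsg.Agent.BlockChar.CentralQuotient

/-!
# Class functions of the p-part as generalized characters
-/

namespace Cfsg.Agent.SmallAbelian

open scoped ComplexConjugate
open Cfsg.Agent Cfsg.Agent.Blocks

universe u

variable {G : Type u} [Group G] [Finite G] {p : ℕ}

theorem exists_pPartExp (hp : p.Prime) :
    ∃ m : ℕ, ∀ g : G, g ^ m = pPartOf p g := by
  obtain ⟨e, he0, he⟩ := BlockChar.exists_primePartExp (G := G) hp
  refine ⟨1 + (Nat.card G - 1) * e, fun g => ?_⟩
  have hcard : 1 ≤ Nat.card G := Nat.card_pos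
  have h1 : g ^ ((Nat.card G - 1) * e) = (pPrimePartOf p g)⁻¹ := by
    refine eq_inv_of_mul_eq_one_left ?_
    rw [← he, ← pow_add, show (Nat.card G - 1) * e + e = Nat.card G * e by
      rw [Nat.sub_one_mul, Nat.sub_add_cancel (Nat.le_mul_of_pos_left e hcard)],
      pow_mul, pow_card_eq_one', one_pow]
  rw [pow_add, pow_one, h1, mul_inv_eq_iff_eq_mul, pPartOf_mul_pPrimePartOf hp]

/-- On a nilpotent subgroup the p-part is multiplicative. -/
theorem pow_mul_pPart {E : Subgroup G} [Group.IsNilpotent E] {m : ℕ} (hp : p.Prime)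
    (hm : ∀ g : G, g ^ m = pPartOf p g) (a b : E) : (a * b) ^ m = a ^ m * b ^ m := by
  obtain ⟨f⟩ := (Group.isNilpotent_of_finite_tfae (G := E)).out 0 4 rfl rfl |>.1 inferInstance
  obtain ⟨u, rfl⟩ := f.surjective a
  obtain ⟨v, rfl⟩ := f.surjective b
  rw [← map_mul, ← map_pow, ← map_pow, ← map_pow, ← map_mul]
  congr 1
  funext q P
  simp only [Pi.pow_apply, Pi.mul_apply]
  have := Fact.mk (Nat.prime_of_mem_primeFactors q.2)
  have key : ∀ x : (P : Subgroup E), x ^ m = if (q : ℕ) = p then x else 1 := by
    intro x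
    obtain ⟨k, hk⟩ := IsPGroup.iff_orderOf.1 P.2 x
    have hk' : orderOf (((x : E) : G)) = (q : ℕ) ^ k := by
      rw [Subgroup.orderOf_coe, Subgroup.orderOf_coe, hk]
    have hval : (((x ^ m : (P : Subgroup E)) : E) : G) = pPartOf p ((x : E) : G) := by
      rw [Subgroup.coe_pow, Subgroup.coe_pow, hm]
    split_ifs with hq
    · apply Subtype.ext; apply Subtype.ext
      rw [hval]
      have h := (parts_mul hp (Commute.one_right ((x : E) : G)) ⟨k, by rw [hk', hq]⟩
        (by simpa using hp.ne_one)).1
      simpa using h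
    · apply Subtype.ext; apply Subtype.ext
      rw [hval]
      refine (pPartOf_eq_one_iff hp _).2 ?_
      rw [hk']
      exact fun hd => hq ((Nat.prime_dvd_prime_iff_eq hp (Nat.prime_of_mem_primeFactors q.2)).1
        (hp.dvd_of_dvd_pow hd)).symm
  rw [key, key, key]
  split_ifs <;> simp

/-- A class function that restricts to a generalized character of a Sylow p-subgroup, evaluated at
the p-part, is a generalized character. -/
theorem isGeneralized_pPart [hp : Fact p.Prime] (P : Sylow p G) {F : G → ℂ}
    (hF : Cfsg.IsClassFunction G F)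
    (hgen : Cfsg.IsGeneralizedCharacter (P : Subgroup G) (fun u => F (u : G))) :
    Cfsg.IsGeneralizedCharacter G (fun g => F (pPartOf p g)) := by
  obtain ⟨m, hm⟩ := exists_pPartExp (G := G) hp.out
  refine Char.isGeneralized_of_elementary (fun g k => ?_) fun E q hq hE => ?_
  · simp only [pPartOf_conj]
    exact hF _ k
  · have := Char.IsElementary.isNilpotent hq hE
    let f : E →* G :=
      { toFun := fun a => ((a ^ m : E) : G)
        map_one' := by simp
        map_mul' := fun a b => by rw [pow_mul_pPart hp.out hm a b, Subgroup.coe_mul] }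
    have hfv : ∀ a : E, f a = pPartOf p (a : G) := fun a => by
      show ((a ^ m : E) : G) = _
      rw [Subgroup.coe_pow, hm]
    have hR : IsPGroup p f.range := IsPGroup.iff_orderOf.2 fun x => by
      obtain ⟨a, ha⟩ := x.2
      obtain ⟨k, hk⟩ := orderOf_pPartOf hp.out (a : G)
      exact ⟨k, by rw [← Subgroup.orderOf_coe, ← ha, hfv, hk]⟩
    obtain ⟨Q, hQ⟩ := hR.exists_le_sylow
    obtain ⟨c, hc⟩ := MulAction.exists_smul_eq G Q P
    have hmem : ∀ a : E, c * f a * c⁻¹ ∈ (P : Subgroup G) := fun a => by
      rw [← hc]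
      exact Subgroup.smul_mem_pointwise_smul (f a) (MulAut.conj c) _ (hQ (f.mem_range.2 ⟨a, rfl⟩))
    let f' : E →* (P : Subgroup G) :=
      ((MulAut.conj c).toMonoidHom.comp f).codRestrict (P : Subgroup G) fun a => hmem a
    have h := Char.isGeneralized_comp f' hgen
    have e : (fun x : E => (fun u : (P : Subgroup G) => F (u : G)) (f' x)) =
        fun x : E => F (pPartOf p (x : G)) := funext fun x => by
      show F (c * f x * c⁻¹) = _
      rw [hF, hfv]
    exact e ▸ h

end Cfsg.Agent.SmallAbelian
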