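import Cfsg.Agent.SmallAbelian.Matrix
import Cfsg.Agent.SmallAbelian.Stable
import Cfsg.Agent.SmallAbelian.Eight

/-!
# The principal block with elementary abelian Sylow subgroup of order 16 and inertial index 9
-/

namespace Cfsg.Agent.SmallAbelian

open scoped ComplexConjugate
open Cfsg.Agent Cfsg.Agent.Blocks MulAction

universe u

variable {G : Type u} [Group G] {M : Ideal Cfsg.AlgInt}

open scoped Classical in
/-- The function that is 4 off a fusion-stable subgroup of index 4 and 0 on it gives integral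
combinations of the section projections. -/
theorem exists_int_off_subgroup [Fintype G] (P : Sylow 2 G) (hel : ∀ x : P, x ^ 2 = 1)
    (hP : Nat.card P = 16) (F : Subgroup (P : Subgroup G)) (hF : Nat.card F = 4)
    (hst : ∀ a ∈ F, ∀ b ∈ orbit (autGrp (P : Subgroup G)) a, b ∈ F)
    (X₀ : Finset (P : Subgroup G))
    (hX : ∀ g : G, (∃ k : ℕ, orderOf g = 2 ^ k) →
      ∃! x, x ∈ X₀.map (Function.Embedding.subtype _) ∧ IsConj g x)
    (χ ψ : Cfsg.IrrCharacter G) :
    ∃ n : ℤ, ∑ a ∈ X₀, (if a ∈ F then (0 : ℂ) else 4) *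
      secM 2 (a : G) (χ : G → ℂ) (ψ : G → ℂ) = n := by
  have := Fact.mk Nat.prime_two
  have hab := isMulCommutative_of_sq hel
  set Φ : G → ℂ := fun g =>
    if ∃ a : (P : Subgroup G), a ∈ F ∧ IsConj g (a : G) then 0 else 4 with hΦ
  have hΦc : Cfsg.IsClassFunction G Φ := fun g k => by
    have h : ∀ a : G, IsConj (k * g * k⁻¹) a ↔ IsConj g a := fun a =>
      ⟨fun h => (isConj_iff.2 ⟨k, rfl⟩ : IsConj g (k * g * k⁻¹)).trans h,
        fun h => (isConj_iff.2 ⟨k, rfl⟩ : IsConj g (k * g * k⁻¹)).symm.trans h⟩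
    simp only [hΦ, h]
  have hval : ∀ a : (P : Subgroup G), Φ (a : G) = if a ∈ F then 0 else 4 := fun a => by
    refine if_congr ⟨?_, fun ha => ⟨a, ha, IsConj.refl _⟩⟩ rfl rfl
    rintro ⟨b, hb, hab'⟩
    exact hst b hb a ((isConj_iff_mem_orbit P hab b a).1 hab'.symm)
  have hidx : F.index = 4 := by
    have := F.card_mul_index
    rw [hF, hP] at this
    omega
  have hgen : Cfsg.IsGeneralizedCharacter (P : Subgroup G) (fun a => Φ (a : G)) := by
    have hQ : IsMulCommutative (P : Subgroup G) := hab
    have hFn : F.Normal := ⟨fun n hn g => by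
      rw [hQ.is_comm.comm g n, mul_inv_cancel_right]; exact hn⟩
    have h1 : Cfsg.IsGeneralizedCharacter (P : Subgroup G) (fun _ => (1 : ℂ)) :=
      Char.isGeneralized_of_isCharacter Char.isCharacter_one
    have h2 : Cfsg.IsGeneralizedCharacter (P : Subgroup G) (Cfsg.indFun F (fun _ => (1 : ℂ))) :=
      Char.isGeneralized_of_isCharacter (Char.isCharacter_indFun F Char.isCharacter_one)
    have e : (fun a : (P : Subgroup G) => Φ (a : G)) =
        ((4 : ℤ) : ℂ) • (fun _ : (P : Subgroup G) => (1 : ℂ)) - Cfsg.indFun F (fun _ => (1 : ℂ)) := by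
      funext a
      rw [hval, Pi.sub_apply, Pi.smul_apply, smul_eq_mul, mul_one, Int.cast_ofNat]
      by_cases ha : a ∈ F
      · have hcst : ∀ x : (P : Subgroup G), Cfsg.extendByZero F (fun _ => (1 : ℂ)) (x⁻¹ * a * x) = 1 := fun x =>
          Char.extendByZero_of_mem F _ (by
            rw [hQ.is_comm.comm x⁻¹ a, mul_assoc, inv_mul_cancel, mul_one]; exact ha)
        rw [if_pos ha, Cfsg.indFun, Finset.sum_congr rfl fun x _ => hcst x, Finset.sum_const,
          nsmul_one, Finset.card_univ, ← Nat.card_eq_fintype_card, hF, hP]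
        norm_num
      · rw [if_neg ha, Char.indFun_apply_of_normal _ _ ha, sub_zero]
    rw [e]
    exact Char.isGeneralized_sub (Char.isGeneralized_intCast_smul 4 h1) h2
  obtain ⟨n, hn⟩ := exists_int_sum_secM Nat.prime_two hX hΦc
    (isGeneralized_pPart P hΦc hgen) χ ψ
  refine ⟨n, ?_⟩
  rw [← hn, Finset.sum_map]
  exact Finset.sum_congr rfl fun a _ => congrArg (· * _) (hval a).symm

open scoped Classical in
/-- Two of the section projections, times four, form one of the integral matrices. -/
theorem exists_matrix [Fintype G] (P : Sylow 2 G) (hel : ∀ x : P, x ^ 2 = 1)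
    (hP : Nat.card P = 16) (F : Subgroup (P : Subgroup G)) (hF : Nat.card F = 4)
    {a y z : (P : Subgroup G)} (ha : (F : Set (P : Subgroup G)) =
      insert 1 (orbit (autGrp (P : Subgroup G)) a))
    (hy : y ∉ F) (hz : z ∉ F) (h1a : (1 : (P : Subgroup G)) ≠ a) (hyz : y ≠ z)
    (hX : ∀ g : G, (∃ k : ℕ, orderOf g = 2 ^ k) →
      ∃! x, x ∈ ({1, a, y, z} : Finset (P : Subgroup G)).map (Function.Embedding.subtype _) ∧
        IsConj g x) (χ ψ : Cfsg.IrrCharacter G) :
    ∃ n : ℤ, 4 * (secM 2 (y : G) (χ : G → ℂ) (ψ : G → ℂ) +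
      secM 2 (z : G) (χ : G → ℂ) (ψ : G → ℂ)) = n := by
  have hmem : a ∈ F := by
    show a ∈ (F : Set (P : Subgroup G))
    rw [ha]; exact Or.inr (mem_orbit_self a)
  have hst : ∀ b ∈ F, ∀ c ∈ orbit (autGrp (P : Subgroup G)) b, c ∈ F := by
    intro b hb c hc
    have hb' : b ∈ (F : Set (P : Subgroup G)) := hb
    show c ∈ (F : Set (P : Subgroup G))
    rw [ha] at hb' ⊢
    rcases hb' with rfl | hb'
    · obtain ⟨e, rfl⟩ := hc
      exact Or.inl (smul_one e)
    · exact Or.inr (orbit_eq_iff.2 hb' ▸ hc)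
  obtain ⟨n, hn⟩ := exists_int_off_subgroup P hel hP F hF hst {1, a, y, z} hX χ ψ
  refine ⟨n, ?_⟩
  have hy1 : y ≠ 1 := fun h => hy (h ▸ F.one_mem)
  have hz1 : z ≠ 1 := fun h => hz (h ▸ F.one_mem)
  have hya : y ≠ a := fun h => hy (h ▸ hmem)
  have hza : z ≠ a := fun h => hz (h ▸ hmem)
  rw [← hn, Finset.sum_insert (by simp [h1a, hy1.symm, hz1.symm]),
    Finset.sum_insert (by simp [hya.symm, hza.symm]), Finset.sum_pair hyz,
    if_pos F.one_mem, if_pos hmem, if_neg hy, if_neg hz]
  ring

open scoped Classical in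
/-- The invariants of the principal block. -/
theorem card_rank_sixteen [Finite G] (hM : Cfsg.IsPModular 2 M) (P : Sylow 2 G)
    (hP : Nat.card P = 16) (hel : ∀ x : P, x ^ 2 = 1)
    (he : (Subgroup.centralizer ((P : Subgroup G) : Set G)).relIndex
      (Subgroup.normalizer ((P : Subgroup G) : Set G)) = 9) :
    Nat.card (Cfsg.principalBlock M G) = 16 ∧
      Cfsg.blockRank 2 (Cfsg.principalBlock M G) = 9 := by
  have := Fact.mk Nat.prime_two
  have := Fintype.ofFinite G
  have hab := isMulCommutative_of_sq hel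
  set E := autGrp (P : Subgroup G)
  have hE : Nat.card E = 9 := (card_autGrp _).trans he
  obtain ⟨x, y, z, Fx, Fy, hx, hy, hz, hsx, hsy, hsz, hFx, hFy, hFx4, hFy4, hyx, hzx, hzy,
    hcov⟩ := orbit_sixteen hP hE
  have hxy : x ∉ orbit E y := fun h => hyx (mem_orbit_symm.1 h)
  have hxy' : x ≠ y := fun h => hxy (h ▸ mem_orbit_self x)
  have hxz' : x ≠ z := fun h => hzx (h ▸ mem_orbit_self x)
  have hyz' : y ≠ z := fun h => hzy (h ▸ mem_orbit_self y)
  have hnot : ∀ {F : Subgroup (P : Subgroup G)} {a b : (P : Subgroup G)},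
      (F : Set (P : Subgroup G)) = insert 1 (orbit E a) → b ≠ 1 → b ∉ orbit E a → b ∉ F :=
    fun {F a b} hF hb hba h => by
      have h' : b ∈ (F : Set (P : Subgroup G)) := h
      rw [hF] at h'
      exact h'.elim hb hba
  set X₀ : Finset (P : Subgroup G) := {1, x, y, z} with hX₀
  have hX : ∀ g : G, (∃ k : ℕ, orderOf g = 2 ^ k) →
      ∃! u, u ∈ X₀.map (Function.Embedding.subtype _) ∧ IsConj g u := by
    refine existsUnique_rep P hab X₀ (fun a => ?_) ?_
    · rcases hcov a with h | h | h | h
      · subst h; exact ⟨1, by simp [hX₀], mem_orbit_self _⟩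
      · exact ⟨x, by simp [hX₀], h⟩
      · exact ⟨y, by simp [hX₀], h⟩
      · exact ⟨z, by simp [hX₀], h⟩
    · intro a ha b hb hab'
      simp only [hX₀, Finset.mem_insert, Finset.mem_singleton] at ha hb
      rcases ha with ha | ha | ha | ha <;> rcases hb with hb | hb | hb | hb <;>
        subst ha <;> subst hb <;> try rfl
      all_goals first
        | exact absurd hab' (one_notMem_orbit ‹_ ≠ (1 : (P : Subgroup G))›)
        | exact absurd (mem_orbit_symm.1 hab') (one_notMem_orbit ‹_ ≠ (1 : (P : Subgroup G))›)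
        | exact absurd hab' hyx
        | exact absurd (mem_orbit_symm.1 hab') hyx
        | exact absurd hab' hzx
        | exact absurd (mem_orbit_symm.1 hab') hzx
        | exact absurd hab' hzy
        | exact absurd (mem_orbit_symm.1 hab') hzy
  have hX' : ∀ g : G, (∃ k : ℕ, orderOf g = 2 ^ k) →
      ∃! u, u ∈ ({1, y, x, z} : Finset (P : Subgroup G)).map (Function.Embedding.subtype _) ∧
        IsConj g u := by
    rw [show ({1, y, x, z} : Finset (P : Subgroup G)) = X₀ by
      ext a; simp only [hX₀, Finset.mem_insert, Finset.mem_singleton]; tauto]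
    exact hX
  have hord : ∀ u : (P : Subgroup G), ∃ k, orderOf (u : G) = 2 ^ k := fun u => by
    obtain ⟨k, hk⟩ := IsPGroup.iff_orderOf.1 P.2 u
    exact ⟨k, (Subgroup.orderOf_coe u).trans hk⟩
  -- the ranks at the singular sections
  have hl3 : ∀ u : (P : Subgroup G), u ≠ 1 → Nat.card (stabilizer E u) = 3 →
      Cfsg.blockRank 2
        (Cfsg.principalBlock M (Subgroup.centralizer ({(u : G)} : Set G))) = 3 := by
    intro u hu hst
    refine rank_centralizer_step hM P hel u.2 (fun h => hu (Subtype.ext h)) (q := 8) (e := 3)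
      (by omega) (by decide) ?_ fun H _ _ Q hQ hQe hQi => rank_eight hM Q hQ hQe hQi
    rw [← card_stabilizer_autGrp, hst]
  obtain ⟨hPz, hcz⟩ := complement_centralizer_of_stabilizer P hab z (Subgroup.card_eq_one.1 hsz)
  have hlz := rank_one_of_complement hM hcz
  have hXp : ∀ a ∈ X₀.map (Function.Embedding.subtype _), ∃ k, orderOf a = 2 ^ k := by
    intro a ha
    obtain ⟨b, -, rfl⟩ := Finset.mem_map.1 ha
    exact hord b
  have h1X : (1 : G) ∈ X₀.map (Function.Embedding.subtype _) :=
    Finset.mem_map.2 ⟨1, by simp [hX₀], rfl⟩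
  have hk := card_principalBlock_eq hM hX h1X hXp
  have he1 : (X₀.map (Function.Embedding.subtype _)).erase 1 =
      ({x, y, z} : Finset (P : Subgroup G)).map (Function.Embedding.subtype _) := by
    rw [show (1 : G) = Function.Embedding.subtype (· ∈ (P : Subgroup G)) 1 from rfl,
      ← Finset.map_erase, hX₀, Finset.erase_insert (by simp [hx.symm, hy.symm, hz.symm])]
  rw [he1, Finset.sum_map, Finset.sum_insert (by simp [hxy', hxz']), Finset.sum_pair hyz'] at hk
  set B := Cfsg.principalBlock M G
  replace hk : Nat.card B = Cfsg.blockRank 2 B + (3 + (3 + 1)) :=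
    hk.trans (congrArg _ (congrArg₂ _ (hl3 x hx hsx) (congrArg₂ _ (hl3 y hy hsy) hlz)))
  -- the rank is at least two
  have hl2 : 2 ≤ Cfsg.blockRank 2 B := by
    by_contra hlt
    have hl1 : Cfsg.blockRank 2 B = 1 := by
      have : 0 < Cfsg.blockRank 2 B := BlockChar.blockRank_pos hM (isPBlock_principalBlock M)
      omega
    have hcompl := BlockChar.hasNormalPComplement_of_const hM
      ((BlockChar.blockRank_eq_one_iff hM).1 hl1)
    set NP := Subgroup.normalizer ((P : Subgroup G) : Set G)
    set CP := Subgroup.centralizer ((P : Subgroup G) : Set G)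
    have hle : NP ≤ CP := by
      intro n hn
      have : (CP.subgroupOf NP).Normal := by
        rw [← Subgroup.normalizerMonoidHom_ker]; infer_instance
      obtain ⟨m, hm⟩ := exists_pPartExp (G := G) Nat.prime_two
      have hs : pPrimePartOf 2 n ∈ CP := by
        refine Fusion.mem_centralizer_of_hasNormalPComplement hcompl P.2 ?_
          ((BlockChar.coprime_orderOf_iff Nat.prime_two _).2
            (not_dvd_orderOf_pPrimePartOf Nat.prime_two n))
        exact Subgroup.pow_mem _ hn _
      have hp : pPartOf 2 n ∈ CP := by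
        have hpN : pPartOf 2 n ∈ NP := hm n ▸ Subgroup.pow_mem _ hn _
        have h := (CP.subgroupOf NP).pow_index_mem ⟨_, hpN⟩
        rw [show (CP.subgroupOf NP).index = 9 from he] at h
        obtain ⟨k, hk⟩ := orderOf_pPartOf (p := 2) Nat.prime_two n
        obtain ⟨r, hr⟩ := exists_pow_eq_self_of_coprime (x := pPartOf 2 n) (n := 9)
          (hk ▸ (Nat.Coprime.pow_right k (by norm_num)))
        rw [← hr]
        exact Subgroup.pow_mem _ (show pPartOf 2 n ^ 9 ∈ CP from h) _
      exact pPartOf_mul_pPrimePartOf (p := 2) Nat.prime_two n ▸ mul_mem hp hs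
    rw [Subgroup.relIndex_eq_one.2 hle] at he
    omega
  -- the column at `z`
  choose d hd hd0 using fun χ => exists_int_value (M := M) hM P hel hz χ
  have := B.toFinite.fintype
  have hsum : ∀ f : Cfsg.IrrCharacter G → ℂ, ∑ᶠ χ ∈ B, f χ = ∑ χ : B, f χ := fun f => by
    rw [← finsum_set_coe_eq_finsum_mem, finsum_eq_sum_of_fintype]
  set S : ↥(P : Subgroup G) → B → B → ℂ := fun u i j =>
    secM 2 (u : G) (i : Cfsg.IrrCharacter G) (j : Cfsg.IrrCharacter G) with hS
  have hSz : ∀ i j : B, S z i j = (d i : ℂ) * d j / 16 := fun i j => by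
    simp only [hS]
    rw [secM_of_complement hM (hord z) hcz P hPz _ _ i.2 j.2, hd, hd, map_intCast, hP]
    norm_num
  have hSone : ∀ i j : B, S 1 i j + (S x i j + (S y i j + S z i j)) = if i = j then 1 else 0 := by
    intro i j
    have h := sum_secM Nat.prime_two hX (i : Cfsg.IrrCharacter G) (j : Cfsg.IrrCharacter G)
    rw [Finset.sum_map, hX₀, Finset.sum_insert (by simp [hx.symm, hy.symm, hz.symm]),
      Finset.sum_insert (by simp [hxy', hxz']), Finset.sum_pair hyz'] at h
    exact h.trans (if_congr Subtype.ext_iff.symm rfl rfl)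
  have hSmul : ∀ a b : (P : Subgroup G), b ∉ orbit E a → ∀ i j : B,
      ∑ k : B, S a i k * S b k j = 0 := fun a b hab' i j => by
    rw [← hsum fun χ : Cfsg.IrrCharacter G =>
      secM 2 (a : G) (i : Cfsg.IrrCharacter G) χ * secM 2 (b : G) χ (j : Cfsg.IrrCharacter G)]
    exact secM_mul_secM hM (isPBlock_principalBlock M)
      (fun h => hab' ((isConj_iff_mem_orbit P hab a b).1 h)) _ _
  have hSsq : ∀ a ∈ X₀, ∀ i j : B, ∑ k : B, S a i k * S a k j = S a i j := fun a ha i j => by
    rw [← hsum fun χ : Cfsg.IrrCharacter G =>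
      secM 2 (a : G) (i : Cfsg.IrrCharacter G) χ * secM 2 (a : G) χ (j : Cfsg.IrrCharacter G)]
    exact secM_mul_self hM hX (isPBlock_principalBlock M) (Finset.mem_map.2 ⟨a, ha, rfl⟩)
      (hord a) _ _ j.2
  have hSpos : ∀ (a : (P : Subgroup G)) (i : B), ∃ r : ℝ, 0 < r ∧ S a i i = r := by
    intro a i
    obtain ⟨r, -, hr, hpos⟩ :=
      secM_diag (p := 2) (a : G) ((i : Cfsg.IrrCharacter G) : G → ℂ)
    refine ⟨r, hpos (a : G) ?_ (apply_ne_zero_of_not_dvd_index hM
      (not_two_dvd_index_centralizer P hab a.2) i.2), hr⟩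
    obtain ⟨k, hk⟩ := hord a
    simpa using (parts_mul Nat.prime_two (Commute.one_right (a : G)) ⟨k, hk⟩
      (by simp)).1
  have hzy' : z ∉ Fy := hnot hFy hz hzy
  have hzx' : z ∉ Fx := hnot hFx hz hzx
  choose A' hA' using fun i j : B =>
    exists_matrix P hel hP Fy hFy4 hFy (hnot hFy hx hxy) hzy' hy.symm hxz' hX'
      (i : Cfsg.IrrCharacter G) (j : Cfsg.IrrCharacter G)
  choose B' hB' using fun i j : B =>
    exists_matrix P hel hP Fx hFx4 hFx (hnot hFx hy hyx) hzx' hx.symm hyz' hX
      (i : Cfsg.IrrCharacter G) (j : Cfsg.IrrCharacter G)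
  -- normalise the signs
  set s : B → ℤ := fun i => if d i < 0 then -1 else 1 with hs
  have hss : ∀ i, s i * s i = 1 := fun i => by simp only [hs]; split_ifs <;> norm_num
  have hsd : ∀ i, 1 ≤ s i * d i := fun i => by
    have := hd0 _ i.2
    simp only [hs]; split_ifs <;> omega
  have hsd2 : ∀ i, (s i * d i) ^ 2 = d i ^ 2 := fun i => by
    rw [mul_pow, sq (s i), hss, one_mul]
  -- the facts about each matrix
  have htriv : (⟨triv G, triv_mem_principalBlock hM⟩ : B) = ⟨triv G, triv_mem_principalBlock hM⟩ :=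
    rfl
  have hd1 : d (triv G) = 1 := by
    have h : ((triv G : Cfsg.IrrCharacter G) : G → ℂ) (z : G) = d (triv G) := hd (triv G)
    have h' : (d (triv G) : ℂ) = 1 := h.symm
    exact_mod_cast h'
  have hmat : ∀ (u : (P : Subgroup G)) (N : B → B → ℤ), u ∈ X₀ → z ∉ orbit E u →
      (∀ i j, 4 * (S u i j + S z i j) = N i j) →
      (∀ i : B, d i ^ 2 = 4 → 2 ≤ N i i) ∧
      (∀ i j, N i j = N j i) ∧ (∀ i j, ∑ k, N i k * N k j = 4 * N i j) ∧
      (∀ i, ∑ k, N i k * d k = 4 * d i) := by
    intro u N hu hzu hN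
    have hzX : z ∈ X₀ := by simp [hX₀]
    have huz : u ∉ orbit E z := fun h => hzu (mem_orbit_symm.1 h)
    refine ⟨fun i hi => ?_, fun i j => ?_, fun i j => ?_, fun i => ?_⟩
    · obtain ⟨r, hr, hru⟩ := hSpos u i
      have h := hN i i
      rw [hru, hSz, ← Int.cast_mul, ← pow_two, hi] at h
      have h' := congrArg Complex.re h
      simp only [Complex.mul_re, Complex.add_re, Complex.ofReal_re, Complex.add_im,
        Complex.ofReal_im] at h'
      norm_num at h'
      have h1 : (1 : ℝ) < (N i i : ℝ) := by linarith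
      exact_mod_cast h1
    · have h := congrArg conj (hN i j)
      simp only [hS, map_mul, map_add, map_intCast, secM_conj, Complex.conj_ofNat] at h
      have h2 := (hN j i).symm.trans h
      exact_mod_cast h2.symm
    · apply Int.cast_injective (α := ℂ)
      push_cast
      simp only [← hN]
      calc ∑ k, 4 * (S u i k + S z i k) * (4 * (S u k j + S z k j))
          = 16 * ((∑ k, S u i k * S u k j + ∑ k, S u i k * S z k j) +
              (∑ k, S z i k * S u k j + ∑ k, S z i k * S z k j)) := by
            simp only [Finset.mul_sum, ← Finset.sum_add_distrib]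
            exact Finset.sum_congr rfl fun k _ => by ring
        _ = 4 * (4 * (S u i j + S z i j)) := by
            rw [hSmul u z hzu, hSmul z u huz, hSsq u hu, hSsq z hzX]; ring
    · apply Int.cast_injective (α := ℂ)
      push_cast
      set t : B := ⟨triv G, triv_mem_principalBlock hM⟩
      have hzt : ∀ k : B, (d k : ℂ) = 16 * S z k t := fun k => by
        rw [hSz, show d (t : Cfsg.IrrCharacter G) = 1 from hd1]; push_cast; ring
      simp only [← hN, hzt]
      calc ∑ k, 4 * (S u i k + S z i k) * (16 * S z k t)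
          = 64 * (∑ k, S u i k * S z k t + ∑ k, S z i k * S z k t) := by
            simp only [Finset.mul_sum, ← Finset.sum_add_distrib]
            exact Finset.sum_congr rfl fun k _ => by ring
        _ = 4 * (16 * S z i t) := by rw [hSmul u z hzu, hSsq z hzX]; ring
  obtain ⟨hAd, hAs, hAq, hAc⟩ := hmat x A' (by simp [hX₀]) hzx hA'
  obtain ⟨hBd, hBs, hBq, hBc⟩ := hmat y B' (by simp [hX₀]) hzy hB'
  have hdiag : ∀ i : B, d i ^ 2 = 4 → A' i i = 2 ∧ B' i i = 2 := by
    intro i hi
    obtain ⟨r, hr, hr1⟩ := hSpos 1 i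
    have h := hSone i i
    rw [if_pos rfl, hr1] at h
    have hz' : S z i i = 1 / 4 := by rw [hSz, ← Int.cast_mul, ← pow_two, hi]; norm_num
    have h2 : (A' i i : ℂ) + B' i i = 5 - 4 * (r : ℂ) := by
      rw [← hA', ← hB']
      linear_combination (4 : ℂ) * h + (4 : ℂ) * hz'
    have h3 := congrArg Complex.re h2
    simp only [Complex.add_re, Complex.intCast_re, Complex.sub_re, Complex.mul_re,
      Complex.ofReal_re, Complex.ofReal_im] at h3
    norm_num at h3
    have h4 : ((A' i i + B' i i : ℤ) : ℝ) < (5 : ℤ) := by push_cast; linarith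
    have h5 := Int.cast_lt.1 h4
    have := hAd i hi
    have := hBd i hi
    omega
  have hsm : ∀ (N : B → B → ℤ), (∀ i : B, d i ^ 2 = 4 → N i i = 2) →
      (∀ i j, N i j = N j i) → (∀ i j, ∑ k, N i k * N k j = 4 * N i j) →
      (∀ i, ∑ k, N i k * d k = 4 * d i) →
      IsSectionMatrix (fun i : B => s i * d i) (fun i j => s i * s j * N i j) := by
    intro N h1 h2 h3 h4
    refine ⟨fun i j => by rw [h2 i j]; ring, fun i j => ?_, fun i => ?_, fun i hi => ?_⟩
    · rw [Finset.sum_congr rfl (g := fun k => s i * s j * (N i k * N k j)) fun k _ => by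
        linear_combination (s i * s j * N i k * N k j) * hss k, ← Finset.mul_sum, h3]
      ring
    · rw [Finset.sum_congr rfl (g := fun k => s i * (N i k * d k)) fun k _ => by
        linear_combination (s i * N i k * d k) * hss k, ← Finset.mul_sum, h4]
      ring
    · rw [hss, one_mul]
      refine h1 i ?_
      rw [← hsd2, show s i * d i = 2 from hi]
      norm_num
  have htr : ∑ i : B, (d i) ^ 2 = (16 : ℤ) := by
    have h := trace_secM hM (hord z)
    rw [hlz, hsum, Finset.sum_congr rfl fun i _ => hSz i i, ← Finset.sum_div, Nat.cast_one,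
      div_eq_one_iff_eq (by norm_num)] at h
    apply Int.cast_injective (α := ℂ)
    push_cast
    rw [← h]
    exact Finset.sum_congr rfl fun i _ => sq _
  have hcard : Nat.card B = Fintype.card B := Nat.card_eq_fintype_card
  have h16 : Fintype.card B = 16 := by
    refine eq_sixteen (d := fun i : B => s i * d i) hsd ?_ (by omega)
      (hsm A' (fun i hi => (hdiag i hi).1) hAs hAq hAc)
      (hsm B' (fun i hi => (hdiag i hi).2) hBs hBq hBc) fun i j => ?_
    · simp only [hsd2]; exact htr
    · rw [Finset.sum_congr rfl (g := fun k => s i * s j * (A' i k * B' k j)) fun k _ => by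
        linear_combination (s i * s j * A' i k * B' k j) * hss k, ← Finset.mul_sum]
      have : ∑ k, A' i k * B' k j = d i * d j := by
        apply Int.cast_injective (α := ℂ)
        push_cast
        simp only [← hA', ← hB']
        have hxz : x ∉ orbit E z := fun h => hzx (mem_orbit_symm.1 h)
        calc ∑ k, 4 * (S x i k + S z i k) * (4 * (S y k j + S z k j))
            = 16 * ((∑ k, S x i k * S y k j + ∑ k, S x i k * S z k j) +
                (∑ k, S z i k * S y k j + ∑ k, S z i k * S z k j)) := by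
              simp only [Finset.mul_sum, ← Finset.sum_add_distrib]
              exact Finset.sum_congr rfl fun k _ => by ring
          _ = (d i : ℂ) * d j := by
              rw [hSmul x y hyx, hSmul x z hzx,
                hSmul z y (fun h => hzy (mem_orbit_symm.1 h)), hSsq z (by simp [hX₀]), hSz]
              ring
      rw [this]; ring
  omega

end Cfsg.Agent.SmallAbelian
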