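import Mathlib

/-!
# Coprime actions of 3-groups on small elementary abelian 2-groups

Orbits and stabilisers of a faithful action of a group of order 3 on a group of order 4 or 8, and
of a group of order 9 on a commutative group of order 16.
-/

namespace Cfsg.Agent.SmallAbelian

open MulAction

variable {P : Type*} [Group P] [Finite P] {E : Type*} [Group E] [Finite E]
  [MulDistribMulAction E P]

/-- The elements fixed by a subgroup of operators. -/
def fixSub (L : Subgroup E) : Subgroup P where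
  carrier := {u | ∀ e ∈ L, e • u = u}
  one_mem' := fun _ _ => smul_one _
  mul_mem' := fun ha hb e he => by rw [smul_mul', ha e he, hb e he]
  inv_mem' := fun ha e he => by rw [smul_inv', ha e he]

omit [Finite P] [Finite E] in
theorem mem_fixSub {L : Subgroup E} {u : P} : u ∈ fixSub L ↔ L ≤ stabilizer E u := Iff.rfl

omit [Finite P] [Finite E] in
theorem self_mem_fixSub (u : P) : u ∈ fixSub (stabilizer E u) := mem_fixSub.2 le_rfl

omit [Finite E] in
theorem card_fixSub_modEq (hE : IsPGroup 3 E) (L : Subgroup E) :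
    Nat.card P ≡ Nat.card (fixSub (P := P) L) [MOD 3] := by
  have := Fact.mk Nat.prime_three
  have h := (hE.to_subgroup L).card_modEq_card_fixedPoints P
  have e : Nat.card (fixedPoints L P) = Nat.card (fixSub (P := P) L) :=
    Nat.card_congr (Equiv.subtypeEquivRight fun u =>
      ⟨fun h e he => h ⟨e, he⟩, fun h e => h e e.2⟩)
  rwa [e] at h

omit [Finite E] in
theorem card_fixSub_lt [FaithfulSMul E P] {L : Subgroup E} (hL : L ≠ ⊥) :
    Nat.card (fixSub (P := P) L) < Nat.card P := by
  refine lt_of_le_of_ne (Subgroup.card_le_card_group _) fun h => hL ?_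
  have htop := Subgroup.eq_top_of_card_eq _ h
  refine (Subgroup.eq_bot_iff_forall L).2 fun e he => FaithfulSMul.eq_of_smul_eq_smul fun u : P => ?_
  rw [one_smul]
  exact mem_fixSub.1 (htop ▸ Subgroup.mem_top u) he

omit [Finite P] [Finite E] in
theorem card_orbit_mul (u : P) :
    (orbit E u).ncard * Nat.card (stabilizer E u) = Nat.card E := by
  rw [← index_stabilizer, mul_comm, Subgroup.card_mul_index]

omit [Finite P] [Finite E] in
theorem one_notMem_orbit {u : P} (hu : u ≠ 1) : (1 : P) ∉ orbit E u := by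
  rintro ⟨e, he⟩
  exact hu (by simpa using (congrArg (e⁻¹ • ·) he))

omit [Finite P] [Finite E] in
theorem disjoint_orbit {u v : P} (h : v ∉ orbit E u) : Disjoint (orbit E u) (orbit E v) := by
  refine Set.disjoint_left.2 fun w hu hv => h ?_
  rw [← orbit_eq_iff.2 hu, orbit_eq_iff.2 hv]
  exact mem_orbit_self v

/-- A group of order 3 on a group of order 4 is transitive on the nontrivial elements. -/
theorem orbit_four [FaithfulSMul E P] (hP : Nat.card P = 4) (hE : Nat.card E = 3) {u v : P}
    (hu : u ≠ 1) (hv : v ≠ 1) : v ∈ orbit E u := by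
  have := Fact.mk Nat.prime_three
  have hE3 : IsPGroup 3 E := IsPGroup.of_card (n := 1) hE
  have htop : (⊤ : Subgroup E) ≠ ⊥ := fun h => by
    have := congrArg (fun S : Subgroup E => Nat.card S) h
    rw [Subgroup.card_top, Subgroup.card_bot, hE] at this
    omega
  have hfix : fixSub (P := P) (⊤ : Subgroup E) = ⊥ := by
    refine Subgroup.card_eq_one.1 ?_
    have h1 := card_fixSub_modEq (P := P) hE3 ⊤
    have h2 := card_fixSub_lt (P := P) htop
    have h3 := Subgroup.card_subgroup_dvd_card (fixSub (P := P) (⊤ : Subgroup E))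
    rw [hP] at h1 h2 h3
    unfold Nat.ModEq at h1
    set n := Nat.card (fixSub (P := P) (⊤ : Subgroup E))
    interval_cases n <;> omega
  have hst : Nat.card (stabilizer E u) = 1 := by
    refine ((Nat.dvd_prime Nat.prime_three).1
      (hE ▸ Subgroup.card_subgroup_dvd_card (stabilizer E u))).resolve_right fun h => hu ?_
    have h1 : stabilizer E u = ⊤ := Subgroup.eq_top_of_card_eq _ (h.trans hE.symm)
    have h2 := self_mem_fixSub (E := E) u
    rwa [h1, hfix, Subgroup.mem_bot] at h2
  have horb := card_orbit_mul (E := E) u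
  rw [hst, hE, mul_one] at horb
  have heq : insert 1 (orbit E u) = (Set.univ : Set P) := by
    refine Set.eq_of_subset_of_ncard_le (Set.subset_univ _) ?_
    rw [Set.ncard_insert_of_notMem (one_notMem_orbit hu), horb, Set.ncard_univ, hP]
  exact ((Set.eq_univ_iff_forall.1 heq v : v ∈ insert 1 (orbit E u))).resolve_left hv

/-- The orbits of a group of order 3 on a group of order 8. -/
theorem orbit_eight [FaithfulSMul E P] (hP : Nat.card P = 8) (hE : Nat.card E = 3) :
    ∃ f v w : P, f ≠ 1 ∧ v ≠ 1 ∧ w ≠ 1 ∧ f ∉ orbit E v ∧ f ∉ orbit E w ∧ w ∉ orbit E v ∧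
      stabilizer E f = ⊤ ∧ stabilizer E v = ⊥ ∧ stabilizer E w = ⊥ ∧
      ∀ u : P, u = 1 ∨ u = f ∨ u ∈ orbit E v ∨ u ∈ orbit E w := by
  have := Fact.mk Nat.prime_three
  have hE3 : IsPGroup 3 E := IsPGroup.of_card (n := 1) hE
  have htop : (⊤ : Subgroup E) ≠ ⊥ := fun h => by
    have := congrArg (fun S : Subgroup E => Nat.card S) h
    rw [Subgroup.card_top, Subgroup.card_bot, hE] at this
    omega
  set F := fixSub (P := P) (⊤ : Subgroup E) with hF
  have hFcard : Nat.card F = 2 := by
    have h1 := card_fixSub_modEq (P := P) hE3 ⊤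
    have h2 := card_fixSub_lt (P := P) htop
    have h3 := Subgroup.card_subgroup_dvd_card F
    rw [hP] at h1 h2 h3
    unfold Nat.ModEq at h1
    rw [← hF] at h1 h2
    set n := Nat.card F
    interval_cases n <;> omega
  obtain ⟨f, hf, hf1⟩ := Subgroup.bot_or_exists_ne_one F |>.resolve_left fun h => by
    rw [h, Subgroup.card_bot] at hFcard; omega
  have hFset : (F : Set P) = {1, f} := by
    refine (Set.eq_of_subset_of_ncard_le ?_ ?_).symm
    · exact Set.insert_subset F.one_mem (Set.singleton_subset_iff.2 hf)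
    · rw [← Nat.card_coe_set_eq, SetLike.coe_sort_coe, hFcard, Set.ncard_pair hf1.symm]
  have hout : ∀ u : P, u ∉ F → stabilizer E u = ⊥ ∧ (orbit E u).ncard = 3 ∧
      ∀ u' ∈ orbit E u, u' ∉ F := by
    intro u hu
    have hst : stabilizer E u = ⊥ := Subgroup.card_eq_one.1 <| by
      refine ((Nat.dvd_prime Nat.prime_three).1
        (hE ▸ Subgroup.card_subgroup_dvd_card (stabilizer E u))).resolve_right fun h => hu ?_
      exact mem_fixSub.2 (Subgroup.eq_top_of_card_eq _ (h.trans hE.symm)).ge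
    have horb := card_orbit_mul (E := E) u
    rw [hst, Subgroup.card_bot, hE, mul_one] at horb
    refine ⟨hst, horb, ?_⟩
    rintro u' ⟨e, rfl⟩ h
    have h1 : e⁻¹ • e • u = e • u := mem_fixSub.1 h (Subgroup.mem_top e⁻¹)
    rw [inv_smul_smul] at h1
    exact hu (h1 ▸ h)
  have hex : ∀ S : Set P, S.ncard < 8 → ∃ u, u ∉ S := fun S hS => by
    by_contra h
    push Not at h
    rw [Set.eq_univ_of_forall h, Set.ncard_univ, hP] at hS
    omega
  obtain ⟨v, hv⟩ := hex F (by rw [← Nat.card_coe_set_eq, SetLike.coe_sort_coe, hFcard]; omega)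
  obtain ⟨w, hw⟩ := hex ((F : Set P) ∪ orbit E v) (by
    have h := Set.ncard_union_le (F : Set P) (orbit E v)
    rw [(hout v hv).2.1, ← Nat.card_coe_set_eq (F : Set P), SetLike.coe_sort_coe, hFcard] at h
    omega)
  rw [Set.mem_union, not_or] at hw
  obtain ⟨hwF, hwv⟩ := hw
  refine ⟨f, v, w, hf1, fun h => hv (h ▸ F.one_mem), fun h => hwF (h ▸ F.one_mem),
    fun h => (hout v hv).2.2 f h hf, fun h => (hout w hwF).2.2 f h hf, hwv,
    eq_top_iff.2 hf, (hout v hv).1, (hout w hwF).1, fun u => ?_⟩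
  have heq : ({1, f} : Set P) ∪ (orbit E v ∪ orbit E w) = Set.univ := by
    rw [← hFset]
    refine Set.eq_of_subset_of_ncard_le (Set.subset_univ _) ?_
    rw [Set.ncard_univ, hP, Set.ncard_union_eq ?_, Set.ncard_union_eq (disjoint_orbit hwv),
      (hout v hv).2.1, (hout w hwF).2.1, ← Nat.card_coe_set_eq, SetLike.coe_sort_coe, hFcard]
    rw [Set.disjoint_left]
    rintro a ha (h | h)
    · exact (hout v hv).2.2 a h ha
    · exact (hout w hwF).2.2 a h ha
  have hu := Set.eq_univ_iff_forall.1 heq u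
  simpa [or_assoc] using hu

/-- The orbits of a group of order 9 on a commutative group of order 16. -/
theorem orbit_sixteen [FaithfulSMul E P] (hP : Nat.card P = 16)
    (hE : Nat.card E = 9) :
    ∃ x y z : P, ∃ Fx Fy : Subgroup P, x ≠ 1 ∧ y ≠ 1 ∧ z ≠ 1 ∧
      Nat.card (stabilizer E x) = 3 ∧ Nat.card (stabilizer E y) = 3 ∧
      Nat.card (stabilizer E z) = 1 ∧
      (Fx : Set P) = insert 1 (orbit E x) ∧ (Fy : Set P) = insert 1 (orbit E y) ∧
      Nat.card Fx = 4 ∧ Nat.card Fy = 4 ∧
      y ∉ orbit E x ∧ z ∉ orbit E x ∧ z ∉ orbit E y ∧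
      ∀ u : P, u = 1 ∨ u ∈ orbit E x ∨ u ∈ orbit E y ∨ u ∈ orbit E z := by
  have := Fact.mk Nat.prime_three
  have hE3 : IsPGroup 3 E := IsPGroup.of_card (n := 2) (by rw [hE]; norm_num)
  have hEc : ∀ a b : E, a * b = b * a := fun a b =>
    (IsPGroup.commGroupOfCardEqPrimeSq (p := 3) (by rw [hE]; norm_num)).mul_comm a b
  have hfix : ∀ L : Subgroup E, L ≠ ⊥ →
      Nat.card (fixSub (P := P) L) = 1 ∨ Nat.card (fixSub (P := P) L) = 4 := by
    intro L hL
    have h1 := card_fixSub_modEq (P := P) hE3 L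
    have h2 := card_fixSub_lt (P := P) hL
    have h3 := Subgroup.card_subgroup_dvd_card (fixSub (P := P) L)
    rw [hP] at h1 h2 h3
    unfold Nat.ModEq at h1
    set n := Nat.card (fixSub (P := P) L)
    interval_cases n <;> omega
  have hfour : ∀ L : Subgroup E, L ≠ ⊥ → ∀ u ∈ fixSub (P := P) L, u ≠ 1 →
      Nat.card (fixSub (P := P) L) = 4 := fun L hL u hu hu1 =>
    (hfix L hL).resolve_left fun h => hu1 (Subgroup.mem_bot.1 (Subgroup.card_eq_one.1 h ▸ hu))
  have hstab : ∀ u : P, Nat.card (stabilizer E u) = 1 ∨ Nat.card (stabilizer E u) = 3 ∨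
      Nat.card (stabilizer E u) = 9 := fun u => by
    obtain ⟨i, hi, h⟩ := (Nat.dvd_prime_pow Nat.prime_three).1
      ((by rw [hE]; norm_num : Nat.card E = 3 ^ 2) ▸
        Subgroup.card_subgroup_dvd_card (stabilizer E u))
    rw [h]; interval_cases i <;> simp
  have hstab_smul : ∀ (e : E) (u : P), stabilizer E (e • u) = stabilizer E u := fun e u => by
    ext a
    rw [mem_stabilizer_iff, mem_stabilizer_iff, smul_smul, hEc, ← smul_smul, smul_left_cancel_iff]
  have htop : (⊤ : Subgroup E) ≠ ⊥ := fun h => by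
    have := congrArg (fun S : Subgroup E => Nat.card S) h
    rw [Subgroup.card_top, Subgroup.card_bot, hE] at this
    omega
  have horb9 : ∀ u : P, Nat.card (stabilizer E u) = 1 → (orbit E u).ncard = 9 := fun u h => by
    have := card_orbit_mul (E := E) u
    rwa [h, hE, mul_one] at this
  -- two free orbits would overflow
  have hno : ∀ S : Set P, S.ncard ≤ 6 → ∃ u, u ∉ S ∧ Nat.card (stabilizer E u) ≠ 1 := by
    intro S hS
    by_contra h
    push Not at h
    have hex : ∀ T : Set P, T.ncard < 16 → ∃ u, u ∉ T := fun T hT => by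
      by_contra h'
      push Not at h'
      rw [Set.eq_univ_of_forall h', Set.ncard_univ, hP] at hT
      omega
    obtain ⟨a, ha⟩ := hex S (by omega)
    have ha9 := horb9 a (h a ha)
    obtain ⟨b, hb⟩ := hex (S ∪ orbit E a) (by
      have := Set.ncard_union_le S (orbit E a)
      omega)
    rw [Set.mem_union, not_or] at hb
    have := Set.ncard_le_ncard (Set.subset_univ (orbit E a ∪ orbit E b))
    rw [Set.ncard_univ, hP, Set.ncard_union_eq (disjoint_orbit hb.2), ha9,
      horb9 b (h b hb.1)] at this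
    omega
  -- no nontrivial element is fixed by everything
  have hT : fixSub (P := P) (⊤ : Subgroup E) = ⊥ := by
    refine Subgroup.card_eq_one.1 ((hfix ⊤ htop).resolve_right fun h4 => ?_)
    obtain ⟨u, hu, hu1⟩ := hno (fixSub (P := P) (⊤ : Subgroup E) : Set P)
      (by rw [← Nat.card_coe_set_eq, SetLike.coe_sort_coe, h4]; omega)
    have hne : stabilizer E u ≠ ⊥ := fun h => hu1 (by rw [h, Subgroup.card_bot])
    have hle : fixSub (P := P) (⊤ : Subgroup E) ≤ fixSub (stabilizer E u) :=
      fun w hw => mem_fixSub.2 (le_top.trans (mem_fixSub.1 hw))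
    have h4' := hfour _ hne u (self_mem_fixSub u) fun h => hu (h ▸ one_mem _)
    have heq := Subgroup.eq_of_le_of_card_ge hle (by rw [h4, h4'])
    exact hu (heq ▸ self_mem_fixSub u)
  have h3of : ∀ u : P, u ≠ 1 → Nat.card (stabilizer E u) ≠ 1 →
      Nat.card (stabilizer E u) = 3 := fun u hu hu1 => by
    rcases hstab u with h | h | h
    · exact absurd h hu1
    · exact h
    · have h1 : u ∈ fixSub (⊤ : Subgroup E) :=
        mem_fixSub.2 (Subgroup.eq_top_of_card_eq _ (h.trans hE.symm)).ge
      rw [hT, Subgroup.mem_bot] at h1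
      exact absurd h1 hu
  have hplane : ∀ u : P, u ≠ 1 → Nat.card (stabilizer E u) = 3 →
      (orbit E u).ncard = 3 ∧ Nat.card (fixSub (P := P) (stabilizer E u)) = 4 ∧
      (fixSub (P := P) (stabilizer E u) : Set P) = insert 1 (orbit E u) := by
    intro u hu h3
    have hne : stabilizer E u ≠ ⊥ := fun h => by rw [h, Subgroup.card_bot] at h3; omega
    have ho := card_orbit_mul (E := E) u
    rw [h3, hE] at ho
    have h4 := hfour _ hne u (self_mem_fixSub u) hu
    refine ⟨by omega, h4, (Set.eq_of_subset_of_ncard_le ?_ ?_).symm⟩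
    · refine Set.insert_subset (one_mem _) ?_
      rintro _ ⟨e, rfl⟩
      exact mem_fixSub.2 (hstab_smul e u).ge
    · rw [Set.ncard_insert_of_notMem (one_notMem_orbit hu), ← Nat.card_coe_set_eq,
        SetLike.coe_sort_coe, h4]
      omega
  obtain ⟨x, hx, hx1⟩ := hno {1} (by simp)
  rw [Set.mem_singleton_iff] at hx
  have hx3 := h3of x hx hx1
  obtain ⟨hxo, hx4, hxF⟩ := hplane x hx hx3
  set Fx := fixSub (P := P) (stabilizer E x)
  obtain ⟨y, hy, hy1⟩ := hno (Fx : Set P)
    (by rw [← Nat.card_coe_set_eq, SetLike.coe_sort_coe, hx4]; omega)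
  have hyne : y ≠ 1 := fun h => hy (h ▸ Fx.one_mem)
  have hy3 := h3of y hyne hy1
  obtain ⟨hyo, hy4, hyF⟩ := hplane y hyne hy3
  set Fy := fixSub (P := P) (stabilizer E y)
  have hdisj : ∀ u ∈ Fx, u ∈ Fy → u = 1 := fun u hu hu' => by
    by_contra h
    have h' : u ∈ orbit E x := by
      have : u ∈ (Fx : Set P) := hu
      rw [hxF] at this
      exact this.resolve_left h
    obtain ⟨e, rfl⟩ := h'
    have h1 : stabilizer E y ≤ stabilizer E x := hstab_smul e x ▸ mem_fixSub.1 hu'
    have h2 := Subgroup.eq_of_le_of_card_ge h1 (by rw [hx3, hy3])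
    exact hy (mem_fixSub.2 h2.ge)
  -- every element is a product
  have hprod : Function.Bijective fun q : Fx × Fy => (q.1 : P) * q.2 := by
    refine (Nat.bijective_iff_injective_and_card _).2 ⟨fun q q' h => ?_,
      by rw [Nat.card_prod, hx4, hy4, hP]⟩
    simp only at h
    have h1 : ((q'.1 : P))⁻¹ * q.1 = (q'.2 : P) * (q.2 : P)⁻¹ := by
      rw [eq_mul_inv_iff_mul_eq, mul_assoc, h, inv_mul_cancel_left]
    have h2 := hdisj _ (mul_mem (inv_mem q'.1.2) q.1.2) (h1 ▸ mul_mem q'.2.2 (inv_mem q.2.2))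
    rw [h2] at h1
    exact Prod.ext (Subtype.ext (inv_mul_eq_one.1 h2).symm)
      (Subtype.ext (mul_inv_eq_one.1 h1.symm).symm)
  obtain ⟨z, hz⟩ : ∃ z : P, z ∉ (Fx : Set P) ∪ Fy := by
    by_contra h
    push Not at h
    have h1 := Set.ncard_union_le (Fx : Set P) (Fy : Set P)
    rw [Set.eq_univ_of_forall h, Set.ncard_univ, hP, ← Nat.card_coe_set_eq,
      ← Nat.card_coe_set_eq (Fy : Set P), SetLike.coe_sort_coe, SetLike.coe_sort_coe, hx4,
      hy4] at h1
    omega
  rw [Set.mem_union, not_or] at hz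
  obtain ⟨⟨⟨a, ha⟩, b, hb⟩, rfl⟩ := hprod.2 z
  simp only at hz
  have hz1 : Nat.card (stabilizer E (a * b)) = 1 := by
    refine Subgroup.card_eq_one.2 ((Subgroup.eq_bot_iff_forall _).2 fun e he => ?_)
    have ha' : a ∈ orbit E x := by
      have : a ∈ (Fx : Set P) := ha
      rw [hxF] at this
      refine this.resolve_left fun h => hz.2 ?_
      rw [h, one_mul]; exact hb
    have hb' : b ∈ orbit E y := by
      have : b ∈ (Fy : Set P) := hb
      rw [hyF] at this
      refine this.resolve_left fun h => hz.1 ?_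
      rw [h, mul_one]; exact ha
    obtain ⟨s, hs⟩ := ha'
    obtain ⟨t, ht⟩ := hb'
    have hea : e • a ∈ Fx := by
      show e • a ∈ (Fx : Set P)
      rw [hxF, ← hs]; exact Or.inr (mem_orbit_of_mem_orbit e (mem_orbit x s))
    have heb : e • b ∈ Fy := by
      show e • b ∈ (Fy : Set P)
      rw [hyF, ← ht]; exact Or.inr (mem_orbit_of_mem_orbit e (mem_orbit y t))
    have h := hprod.1 (a₁ := (⟨_, hea⟩, ⟨_, heb⟩)) (a₂ := (⟨a, ha⟩, ⟨b, hb⟩))
      (show e • a * e • b = a * b by rw [← smul_mul']; exact he)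
    have hea' : e ∈ stabilizer E x := by
      rw [← hstab_smul s x]; show e • s • x = s • x
      rw [show s • x = a from hs]; exact congrArg (fun q : Fx × Fy => (q.1 : P)) h
    have heb' : e ∈ stabilizer E y := by
      rw [← hstab_smul t y]; show e • t • y = t • y
      rw [show t • y = b from ht]; exact congrArg (fun q : Fx × Fy => (q.2 : P)) h
    by_contra hne
    have hinf : stabilizer E x ⊓ stabilizer E y = ⊥ := by
      have hd := Subgroup.card_dvd_of_le (inf_le_left : stabilizer E x ⊓ stabilizer E y ≤ _)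
      rw [hx3] at hd
      rcases (Nat.dvd_prime Nat.prime_three).1 hd with h1 | h1
      · exact Subgroup.card_eq_one.1 h1
      · have h2 := Subgroup.eq_of_le_of_card_ge
          (inf_le_left : stabilizer E x ⊓ stabilizer E y ≤ stabilizer E x) (by rw [h1, hx3])
        have h3 := Subgroup.eq_of_le_of_card_ge (inf_eq_left.1 h2) (by rw [hx3, hy3])
        exact absurd (mem_fixSub.2 h3.le : y ∈ Fx) hy
    exact hne (Subgroup.mem_bot.1 (hinf ▸ Subgroup.mem_inf.2 ⟨hea', heb'⟩))
  have hzne : a * b ≠ 1 := fun h => hz.1 (by rw [h]; exact Fx.one_mem)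
  have hzo := horb9 _ hz1
  have hyx : y ∉ orbit E x := fun h => hy (by
    show y ∈ (Fx : Set P)
    rw [hxF]; exact Or.inr h)
  have hzx : a * b ∉ orbit E x := fun h => hz.1 (by
    show a * b ∈ (Fx : Set P)
    rw [hxF]; exact Or.inr h)
  have hzy : a * b ∉ orbit E y := fun h => hz.2 (by
    show a * b ∈ (Fy : Set P)
    rw [hyF]; exact Or.inr h)
  refine ⟨x, y, a * b, Fx, Fy, hx, hyne, hzne, hx3, hy3, hz1, hxF, hyF, hx4, hy4, hyx, hzx, hzy,
    fun u => ?_⟩
  have heq : insert 1 (orbit E x ∪ (orbit E y ∪ orbit E (a * b))) = (Set.univ : Set P) := by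
    refine Set.eq_of_subset_of_ncard_le (Set.subset_univ _) ?_
    rw [Set.ncard_insert_of_notMem (by
      simp only [Set.mem_union, not_or]
      exact ⟨one_notMem_orbit hx, one_notMem_orbit hyne, one_notMem_orbit hzne⟩),
      Set.ncard_union_eq ((disjoint_orbit hyx).union_right (disjoint_orbit hzx)),
      Set.ncard_union_eq (disjoint_orbit hzy), hxo, hyo, hzo, Set.ncard_univ, hP]
  simpa using Set.eq_univ_iff_forall.1 heq u

end Cfsg.Agent.SmallAbelian
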