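import Mathlib

/-!
# The integer matrices of a principal block with elementary abelian defect group of order 16

`A` and `B` are four times the sums of two of the section projections; `d` is the column of
character values at an involution whose centraliser has a block of rank one.
-/

namespace Cfsg.Agent.SmallAbelian

open Finset

theorem two_dvd_sum_sq_sub {ι : Type*} (s : Finset ι) (v : ι → ℤ) :
    (2 : ℤ) ∣ ∑ i ∈ s, v i ^ 2 - ∑ i ∈ s, v i := by
  rw [← sum_sub_distrib]
  refine dvd_sum fun i _ => ?_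
  have h : v i ^ 2 - v i = v i * (v i - 1) := by ring
  exact h ▸ (Int.even_mul_pred_self (v i)).two_dvd

theorem eq_zero_or_one_of_sum {ι : Type*} {s : Finset ι} {v : ι → ℤ}
    (h : ∑ i ∈ s, v i ^ 2 = ∑ i ∈ s, v i) {i : ι} (hi : i ∈ s) : v i = 0 ∨ v i = 1 := by
  have hnn : ∀ j ∈ s, 0 ≤ v j ^ 2 - v j := fun j _ => by
    nlinarith [Int.le_self_sq (v j)]
  have h0 := (sum_eq_zero_iff_of_nonneg hnn).1 (by rw [sum_sub_distrib, h, sub_self]) i hi
  have : v i * (v i - 1) = 0 := by linarith [sq (v i)]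
  rcases mul_eq_zero.1 this with h1 | h1
  · exact Or.inl h1
  · exact Or.inr (by linarith)

/-- The properties used of each of the two matrices. -/
structure IsSectionMatrix {ι : Type*} [Fintype ι] (d : ι → ℤ) (A : ι → ι → ℤ) : Prop where
  symm : ∀ i j, A i j = A j i
  sq : ∀ i j, ∑ k, A i k * A k j = 4 * A i j
  col : ∀ i, ∑ k, A i k * d k = 4 * d i
  even_diag : ∀ i, d i = 2 → A i i = 2

variable {ι : Type*} [Fintype ι] [DecidableEq ι] {d : ι → ℤ} {A : ι → ι → ℤ}

/-- An index of value two is linked to a second one, and to nothing else. -/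
theorem IsSectionMatrix.paired (hA : IsSectionMatrix d A) (hd : ∀ i, d i = 1 ∨ d i = 2)
    (hev : (univ.filter fun i => d i = 2).card ≤ 2) {e : ι} (he : d e = 2) :
    ∃ f, f ≠ e ∧ d f = 2 ∧ A e f = 2 := by
  have hsq : ∀ i, ∑ k, A i k ^ 2 = 4 * A i i := fun i => by
    rw [← hA.sq i i]
    exact sum_congr rfl fun k _ => by rw [hA.symm k i, pow_two]
  set O := univ.filter fun i => d i = 1 with hO
  set Ev := univ.filter fun i => d i = 2 with hEv
  have hsplit : ∀ F : ι → ℤ, ∑ k, F k = (∑ k ∈ Ev, F k) + ∑ k ∈ O, F k := by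
    intro F
    rw [← sum_filter_add_sum_filter_not univ (fun i => d i = 2) F]
    congr 1
    refine sum_congr (filter_congr fun i _ => ?_) fun _ _ => rfl
    rcases hd i with h | h <;> simp [h]
  have hOd : ∀ i, ∑ k ∈ O, A i k * d k = ∑ k ∈ O, A i k := fun i =>
    sum_congr rfl fun k hk => by rw [(mem_filter.1 hk).2, mul_one]
  have heE : e ∈ Ev := mem_filter.2 ⟨mem_univ _, he⟩
  have he2 := hA.even_diag e he
  rcases Nat.lt_or_ge Ev.card 2 with hc | hc
  · -- a single even index
    exfalso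
    have hE : Ev = {e} := by
      refine (eq_singleton_iff_unique_mem.2 ⟨heE, fun x hx => ?_⟩)
      exact card_le_one.1 (by omega) x hx e heE
    have h1 := hA.col e
    rw [hsplit, hE, sum_singleton, hOd, he2, he] at h1
    have h2 := hsq e
    rw [hsplit, hE, sum_singleton, he2] at h2
    have h3 : ∑ k ∈ O, A e k ^ 2 = ∑ k ∈ O, A e k := by linarith
    obtain ⟨j, hj, hj0⟩ := exists_ne_zero_of_sum_ne_zero
      (show ∑ k ∈ O, A e k ≠ 0 by linarith)
    have hj1 : A e j = 1 := (eq_zero_or_one_of_sum h3 hj).resolve_left hj0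
    have hdj : d j = 1 := (mem_filter.1 hj).2
    have h4 := hA.col j
    rw [hsplit, hE, sum_singleton, hOd, hA.symm j e, hj1, he, hdj] at h4
    have h5 := hsq j
    rw [hsplit, hE, sum_singleton, hA.symm j e, hj1] at h5
    have h6 := two_dvd_sum_sq_sub O (A j)
    rw [show ∑ k ∈ O, A j k ^ 2 = 4 * A j j - 1 by linarith,
      show ∑ k ∈ O, A j k = 2 by linarith] at h6
    omega
  · -- two even indices
    have hc2 : Ev.card = 2 := le_antisymm hev hc
    obtain ⟨f, hf⟩ := card_eq_one.1 (by rw [card_erase_of_mem heE, hc2] : (Ev.erase e).card = 1)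
    have hfm : f ∈ Ev.erase e := by rw [hf]; exact mem_singleton_self f
    have hfe : f ≠ e := (mem_erase.1 hfm).1
    have hdf : d f = 2 := (mem_filter.1 (mem_erase.1 hfm).2).2
    refine ⟨f, hfe, hdf, ?_⟩
    have hE : Ev = {e, f} := by rw [← insert_erase heE, hf]
    have hf2 := hA.even_diag f hdf
    have hpair : ∀ F : ι → ℤ, ∑ k, F k = F e + F f + ∑ k ∈ O, F k := fun F => by
      rw [hsplit, hE, sum_pair hfe.symm]
    have h1 := hA.col e
    rw [hpair, hOd, he2, he, hdf] at h1
    have h2 := hsq e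
    rw [hpair, he2] at h2
    have hb : -2 ≤ A e f ∧ A e f ≤ 2 := by
      have : (0 : ℤ) ≤ ∑ k ∈ O, A e k ^ 2 := sum_nonneg fun k _ => sq_nonneg _
      constructor <;> nlinarith
    have hn : (0 : ℤ) ≤ ∑ k ∈ O, A e k ^ 2 := sum_nonneg fun k _ => sq_nonneg _
    by_contra hne
    -- otherwise `A e f = 0`
    have hef : A e f = 0 := by
      have h6 := two_dvd_sum_sq_sub O (A e)
      obtain h | h | h | h :
          A e f = -2 ∨ A e f = -1 ∨ A e f = 0 ∨ A e f = 1 := by omega
      · exfalso
        rw [h] at h1 h2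
        have hz : ∀ k ∈ O, A e k = 0 := fun k hk =>
          sq_eq_zero_iff.1 ((sum_eq_zero_iff_of_nonneg fun k _ => sq_nonneg _).1
            (by linarith) k hk)
        rw [sum_congr rfl hz] at h1
        simp at h1
      · rw [h] at h1 h2; omega
      · exact h
      · rw [h] at h1 h2; omega
    rw [hef] at h1 h2
    have h3 : ∑ k ∈ O, A e k ^ 2 = ∑ k ∈ O, A e k := by linarith
    have hfe0 : A f e = 0 := by rw [hA.symm, hef]
    have g1 := hA.col f
    rw [hpair, hOd, hf2, hfe0, hdf] at g1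
    have g2 := hsq f
    rw [hpair, hf2, hfe0] at g2
    have g3 : ∑ k ∈ O, A f k ^ 2 = ∑ k ∈ O, A f k := by linarith
    have hnn : ∀ k ∈ O, 0 ≤ A e k * A f k := fun k hk => by
      rcases eq_zero_or_one_of_sum h3 hk with a | a <;>
        rcases eq_zero_or_one_of_sum g3 hk with b | b <;> simp [a, b]
    have h7 := hA.sq e f
    rw [hpair, hef] at h7
    simp only [zero_mul, mul_zero, zero_add, add_zero] at h7
    rw [sum_congr rfl (g := fun k => A e k * A f k) fun k _ => by rw [hA.symm k f]] at h7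
    obtain ⟨j, hj, hj0⟩ := exists_ne_zero_of_sum_ne_zero
      (show ∑ k ∈ O, A e k ≠ 0 by linarith)
    have hj1 : A e j = 1 := (eq_zero_or_one_of_sum h3 hj).resolve_left hj0
    have hjf : A j f = 0 := by
      have := (sum_eq_zero_iff_of_nonneg hnn).1 h7 j hj
      rw [hj1, one_mul] at this
      rw [hA.symm, this]
    have hdj : d j = 1 := (mem_filter.1 hj).2
    have h4 := hA.col j
    rw [hpair, hOd, hA.symm j e, hj1, hjf, he, hdf, hdj] at h4
    have h5 := hsq j
    rw [hpair, hA.symm j e, hj1, hjf] at h5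
    have h6 := two_dvd_sum_sq_sub O (A j)
    rw [show ∑ k ∈ O, A j k ^ 2 = 4 * A j j - 1 by linarith,
      show ∑ k ∈ O, A j k = 2 by linarith] at h6
    omega

/-- No entry of the column has absolute value two. -/
theorem IsSectionMatrix.no_two {B : ι → ι → ℤ} (hA : IsSectionMatrix d A)
    (hB : IsSectionMatrix d B) (hd : ∀ i, d i = 1 ∨ d i = 2)
    (hev : (univ.filter fun i => d i = 2).card ≤ 2)
    (hAB : ∀ i j, ∑ k, A i k * B k j = d i * d j) (e : ι) : d e ≠ 2 := by
  intro he
  obtain ⟨f, hfe, hdf, hAf⟩ := hA.paired hd hev he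
  obtain ⟨f', hfe', hdf', hBf⟩ := hB.paired hd hev he
  have hff : f' = f := by
    by_contra hne
    have h3 : ({e, f, f'} : Finset ι) ⊆ univ.filter fun i => d i = 2 := by
      intro i hi
      simp only [mem_insert, mem_singleton] at hi
      rcases hi with rfl | rfl | rfl <;> exact mem_filter.2 ⟨mem_univ _, by assumption⟩
    have h4 := card_le_card h3
    rw [card_eq_three.2 ⟨e, f, f', hfe.symm, hfe'.symm, fun h => hne h.symm, rfl⟩] at h4
    omega
  subst hff
  have hAe := hA.even_diag e he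
  have hBe := hB.even_diag e he
  have hz : ∀ k, k ∉ ({e, f'} : Finset ι) → A e k = 0 := by
    intro k hk
    have h : ∑ k, A e k ^ 2 = 4 * A e e := by
      rw [← hA.sq e e]
      exact sum_congr rfl fun k _ => by rw [hA.symm k e, pow_two]
    rw [← sum_add_sum_compl {e, f'}, sum_pair hfe.symm, hAe, hAf] at h
    exact sq_eq_zero_iff.1 ((sum_eq_zero_iff_of_nonneg fun k _ => sq_nonneg _).1
      (by linarith) k (mem_compl.2 hk))
  have h := hAB e e
  rw [← sum_subset (subset_univ {e, f'}) fun k _ hk => by rw [hz k hk, zero_mul],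
    sum_pair hfe.symm, hAe, hAf, hBe, hB.symm, hBf, he] at h
  norm_num at h

/-- Sixteen is the only length of the column. -/
theorem eq_sixteen {A B : ι → ι → ℤ} (hd0 : ∀ i, 1 ≤ d i) (hsum : ∑ i, d i ^ 2 = 16)
    (hk : 9 ≤ Fintype.card ι) (hA : IsSectionMatrix d A) (hB : IsSectionMatrix d B)
    (hAB : ∀ i j, ∑ k, A i k * B k j = d i * d j) : Fintype.card ι = 16 := by
  have hge : ∀ i, (0 : ℤ) ≤ d i ^ 2 - 1 := fun i => by nlinarith [hd0 i]
  have hex : ∑ i, (d i ^ 2 - 1) = 16 - (Fintype.card ι : ℤ) := by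
    rw [sum_sub_distrib, hsum]; simp
  have hd : ∀ i, d i = 1 ∨ d i = 2 := by
    intro i
    have h1 := single_le_sum (fun j _ => hge j) (mem_univ i)
    rw [hex] at h1
    have hki : (9 : ℤ) ≤ Fintype.card ι := by exact_mod_cast hk
    have : d i ≤ 2 := by nlinarith [hd0 i]
    have := hd0 i
    omega
  have hev : (univ.filter fun i => d i = 2).card ≤ 2 := by
    have h1 : ∑ i ∈ univ.filter (fun i => d i = 2), (d i ^ 2 - 1) ≤ ∑ i, (d i ^ 2 - 1) :=
      sum_le_sum_of_subset_of_nonneg (subset_univ _) fun i _ _ => hge i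
    rw [hex, sum_congr rfl (g := fun _ => (3 : ℤ)) fun i hi => by
      rw [(mem_filter.1 hi).2]; norm_num, sum_const, nsmul_eq_mul] at h1
    have hki : (9 : ℤ) ≤ Fintype.card ι := by exact_mod_cast hk
    omega
  have h1 : ∀ i, d i = 1 := fun i =>
    (hd i).resolve_right (hA.no_two hB hd hev hAB i)
  have h2 : (Fintype.card ι : ℤ) = 16 := by
    rw [← hsum]; simp [h1]
  exact_mod_cast h2

end Cfsg.Agent.SmallAbelian
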